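/-
Pronormality of subgroups of odd index: self-normalising Sylow 2-subgroups, and four-groups.
-/
import Cfsg.Agent.Lib.Known.Pronormal

set_option autoImplicit false

namespace CfsgLib.PronormalPSL

open scoped Pointwise

variable {G : Type*} [Group G] [Finite G]

theorem exists_sylow_le {H : Subgroup G} (hH : Odd H.index) :
    ∃ S : Sylow 2 G, (S : Subgroup G) ≤ H := by
  haveI : Fact (Nat.Prime 2) := ⟨Nat.prime_two⟩
  obtain ⟨S₀⟩ := (inferInstance : Nonempty (Sylow 2 H))
  refine ⟨Sylow.ofCard ((S₀ : Subgroup H).map H.subtype) ?_, fun x hx => ?_⟩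
  · rw [Subgroup.card_map_of_injective H.subtype_injective, S₀.card_eq_multiplicity,
      ← H.card_mul_index, Nat.factorization_mul (Nat.card_pos).ne' H.index_ne_zero_of_finite,
      Finsupp.add_apply, Nat.factorization_eq_zero_of_not_dvd (n := H.index)
        (Nat.two_dvd_ne_zero.mpr (Nat.odd_iff.mp hH)), add_zero]
  · obtain ⟨y, -, rfl⟩ := hx
    exact y.2

/-- One self-normalising Sylow 2-subgroup makes every subgroup of odd index pronormal. -/
theorem isPronormal_of_self_normalizing (S₀ : Sylow 2 G)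
    (h : Subgroup.normalizer ((S₀ : Subgroup G) : Set G) ≤ S₀) (H : Subgroup G)
    (hH : Odd H.index) : Cfsg.IsPronormal H := by
  haveI : Fact (Nat.Prime 2) := ⟨Nat.prime_two⟩
  obtain ⟨S, hS⟩ := exists_sylow_le hH
  refine CfsgLib.Known.isPronormal_of_normalizer_sylow_le S H hS fun x hx => ?_
  obtain ⟨c, hc⟩ := MulAction.exists_smul_eq G S S₀
  have hx' : c * x * c⁻¹ ∈ Subgroup.normalizer ((S₀ : Subgroup G) : Set G) := by
    refine Sylow.smul_eq_iff_mem_normalizer.1 ?_
    rw [← hc, mul_smul, mul_smul, inv_smul_smul, Sylow.smul_eq_iff_mem_normalizer.2 hx]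
  have h2 := h hx'
  rw [← hc, Sylow.coe_subgroup_smul, Subgroup.mem_pointwise_smul_iff_inv_smul_mem] at h2
  refine Subgroup.le_normalizer (hS ?_)
  simpa [MulAut.smul_def, mul_assoc] using h2

/-- A fixed-point-free involution on a finite group inverts it. -/
theorem inverts_of_fpf {A : Subgroup G} {t : G} (ht : t * t = 1)
    (hn : ∀ a ∈ A, t * a * t ∈ A) (hf : ∀ a ∈ A, t * a = a * t → a = 1) :
    ∀ a ∈ A, t * a * t = a⁻¹ := by
  let f : A → A := fun a => ⟨(a : G)⁻¹ * (t * a * t), A.mul_mem (A.inv_mem a.2) (hn a a.2)⟩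
  have hinj : Function.Injective f := by
    intro a b e
    have e' : (a : G)⁻¹ * (t * a * t) = (b : G)⁻¹ * (t * b * t) := congrArg Subtype.val e
    have h1 : t * ((b : G) * (a : G)⁻¹) * t = (b : G) * (a : G)⁻¹ := by
      have h2 : (b : G) * (a : G)⁻¹ * (t * a * t) = t * b * t := by
        rw [mul_assoc, e', mul_inv_cancel_left]
      have h3 : (b : G) * (a : G)⁻¹ = t * b * t * (t * a * t)⁻¹ := by
        rw [← h2, mul_inv_cancel_right]
      conv_rhs => rw [h3]
      have ht' : t⁻¹ = t := inv_eq_of_mul_eq_one_right ht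
      rw [mul_inv_rev, mul_inv_rev, ht']
      simp only [mul_assoc]
      rw [← mul_assoc t t ((a : G)⁻¹ * t), ht, one_mul]
    have h4 := hf _ (A.mul_mem b.2 (A.inv_mem a.2)) (by
      conv_rhs => rw [← h1, mul_assoc, ht, mul_one])
    exact Subtype.ext (mul_inv_eq_one.1 h4).symm
  intro y hy
  obtain ⟨a, ha⟩ := Finite.surjective_of_injective hinj ⟨y, hy⟩
  have ha' : (a : G)⁻¹ * (t * a * t) = y := congrArg Subtype.val ha
  have ht' : t⁻¹ = t := inv_eq_of_mul_eq_one_right ht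
  rw [← ha', mul_inv_rev, mul_inv_rev, mul_inv_rev, ht', inv_inv]
  simp only [mul_assoc]
  rw [ht, mul_one]

theorem card_fusion_set (O : Subgroup G) (hO : Odd (Nat.card O))
    (key : ∀ t u a : G, orderOf t = 2 → orderOf u = 2 → a ≠ 1 → Odd (orderOf a) →
      Commute t a → Commute u a → t = u)
    {t : G} (ht : orderOf t = 2) (hta : ∃ a ∈ O, a ≠ 1 ∧ Commute t a) :
    Nat.card O ≤ 2 * Nat.card
      {y : G // y ∈ O ∧ y ≠ 1 ∧ ∃ x ∈ O, Commute (x * t * x⁻¹) y} := by
  set A : Subgroup O := (Subgroup.centralizer ({t} : Set G)).subgroupOf O with hA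
  have hmem : ∀ a : O, a ∈ A ↔ Commute t (a : G) := fun a => by
    rw [hA, Subgroup.mem_subgroupOf, Subgroup.mem_centralizer_singleton_iff]
    exact ⟨fun h => h.symm, fun h => h.symm⟩
  let f : (O ⧸ A) × {a : A // a ≠ 1} →
      {y : G // y ∈ O ∧ y ≠ 1 ∧ ∃ x ∈ O, Commute (x * t * x⁻¹) y} := fun p =>
    ⟨(p.1.out : G) * ((p.2.1 : O) : G) * (p.1.out : G)⁻¹,
      O.mul_mem (O.mul_mem p.1.out.2 (p.2.1 : O).2) (O.inv_mem p.1.out.2),
      fun e => p.2.2 (Subtype.ext (Subtype.ext (conj_eq_one_iff.1 e))),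
      (p.1.out : G), p.1.out.2, Commute.conj_iff _ |>.2 ((hmem _).1 p.2.1.2)⟩
  have hinj : Function.Injective f := by
    rintro ⟨q, a⟩ ⟨q', a'⟩ e
    have e' : (q.out : G) * ((a.1 : O) : G) * (q.out : G)⁻¹ =
        (q'.out : G) * ((a'.1 : O) : G) * (q'.out : G)⁻¹ := congrArg Subtype.val e
    set y := (q.out : G) * ((a.1 : O) : G) * (q.out : G)⁻¹ with hy
    have hyO : y ∈ O := O.mul_mem (O.mul_mem q.out.2 (a.1 : O).2) (O.inv_mem q.out.2)
    have h1 := key ((q.out : G) * t * (q.out : G)⁻¹) ((q'.out : G) * t * (q'.out : G)⁻¹) y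
      (by rw [← MulAut.conj_apply, MulEquiv.orderOf_eq]; exact ht)
      (by rw [← MulAut.conj_apply, MulEquiv.orderOf_eq]; exact ht)
      (fun h => a.2 (Subtype.ext (Subtype.ext (conj_eq_one_iff.1 h))))
      (hO.of_dvd_nat (Subgroup.orderOf_dvd_natCard O hyO))
      (Commute.conj_iff _ |>.2 ((hmem _).1 a.1.2))
      (e' ▸ (Commute.conj_iff _ |>.2 ((hmem _).1 a'.1.2)))
    have h2 : q.out⁻¹ * q'.out ∈ A := by
      rw [hmem, Subgroup.coe_mul, Subgroup.coe_inv, commute_iff_eq]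
      calc t * ((q.out : G)⁻¹ * q'.out)
          = (q.out : G)⁻¹ * ((q.out : G) * t * (q.out : G)⁻¹) * q'.out := by group
        _ = (q.out : G)⁻¹ * q'.out * t := by rw [h1]; group
    have hq : q = q' := by
      have h3 := QuotientGroup.eq.2 h2
      rwa [QuotientGroup.out_eq', QuotientGroup.out_eq'] at h3
    subst hq
    exact Prod.ext rfl (Subtype.ext (Subtype.ext (Subtype.ext
      (mul_left_cancel (mul_right_cancel e')))))
  have hc := Nat.card_le_card_of_injective f hinj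
  have hA2 : 2 ≤ Nat.card A := by
    obtain ⟨a, haO, ha1, hta⟩ := hta
    have : Nontrivial A := ⟨⟨⟨a, haO⟩, (hmem _).2 hta⟩, 1, fun h => ha1
      (congrArg (fun z : A => ((z : O) : G)) h)⟩
    exact Finite.one_lt_card
  have hA1 : Nat.card {a : A // a ≠ 1} + 1 = Nat.card A := by
    classical
    haveI := Fintype.ofFinite A
    rw [Nat.card_eq_fintype_card, Nat.card_eq_fintype_card, Fintype.card_subtype_compl,
      Fintype.card_subtype_eq]
    have : 0 < Fintype.card A := Fintype.card_pos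
    omega
  rw [Nat.card_prod] at hc
  have hcard := A.card_mul_index
  rw [Subgroup.index_eq_card] at hcard
  nlinarith [hA1, hA2, hc, hcard]

/-- Four-group Sylow 2-subgroups with disjoint odd centralisers of involutions. -/
theorem isPronormal_of_klein_sylow
    (hK : ∀ S : Sylow 2 G, ∀ x ∈ (S : Subgroup G), x * x = 1)
    (h4 : ∀ S : Sylow 2 G, Nat.card (S : Subgroup G) = 4)
    (hC : ∀ S : Sylow 2 G, ∀ z, (∀ v ∈ (S : Subgroup G), v * z = z * v) → z ∈ (S : Subgroup G))
    (key : ∀ t u a : G, orderOf t = 2 → orderOf u = 2 → a ≠ 1 → Odd (orderOf a) →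
      Commute t a → Commute u a → t = u)
    (H : Subgroup G) (hH : Odd H.index) : Cfsg.IsPronormal H := by
  haveI : Fact (Nat.Prime 2) := ⟨Nat.prime_two⟩
  classical
  obtain ⟨S, hS⟩ := exists_sylow_le hH
  -- reduction to an element normalising `S`
  suffices main : ∀ g ∈ Subgroup.normalizer ((S : Subgroup G) : Set G),
      g ∈ H ⊔ H.map (MulAut.conj g).toMonoidHom ∨ H.map (MulAut.conj g).toMonoidHom = H by
    intro g
    set K := H ⊔ H.map (MulAut.conj g).toMonoidHom with hKdef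
    have h1 : (S : Subgroup G) ≤ K := hS.trans le_sup_left
    have h2 : ((g • S : Sylow 2 G) : Subgroup G) ≤ K := by
      refine le_trans ?_ le_sup_right
      rintro x ⟨s, hs, rfl⟩
      exact ⟨s, hS hs, rfl⟩
    obtain ⟨k, hk⟩ := MulAction.exists_smul_eq K (S.subtype h1) ((g • S).subtype h2)
    simp_rw [Sylow.smul_subtype, Subgroup.smul_def] at hk
    have hk' : (k : G) • S = g • S := Sylow.subtype_injective hk
    have hn : (k : G)⁻¹ * g ∈ Subgroup.normalizer ((S : Subgroup G) : Set G) := by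
      apply Sylow.smul_eq_iff_mem_normalizer.mp
      rw [mul_smul, ← hk', inv_smul_smul]
    have e : H.map (MulAut.conj g).toMonoidHom =
        (H.map (MulAut.conj ((k : G)⁻¹ * g)).toMonoidHom).map (MulAut.conj (k : G)).toMonoidHom := by
      rw [Subgroup.map_map]
      congr 1
      ext x
      show g * x * g⁻¹ = (k : G) * ((k : G)⁻¹ * g * x * ((k : G)⁻¹ * g)⁻¹) * (k : G)⁻¹
      group
    rcases main _ hn with h | h
    · refine ⟨(k : G) * ((k : G)⁻¹ * g), K.mul_mem k.2 ?_, by rw [mul_inv_cancel_left]⟩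
      suffices hle : H ⊔ H.map (MulAut.conj ((k : G)⁻¹ * g)).toMonoidHom ≤ K from hle h
      refine sup_le le_sup_left ?_
      rintro x ⟨y, hy, rfl⟩
      have : g * y * g⁻¹ ∈ K := Subgroup.mem_sup_right ⟨y, hy, rfl⟩
      have := K.mul_mem (K.mul_mem (K.inv_mem k.2) this) k.2
      show (k : G)⁻¹ * g * y * ((k : G)⁻¹ * g)⁻¹ ∈ K
      convert this using 1; group
    · exact ⟨k, k.2, by rw [e, h]⟩
  intro g hgN
  haveI : Fintype (S : Subgroup G) := Fintype.ofFinite _
  set K := H ⊔ H.map (MulAut.conj g).toMonoidHom with hKdef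
  rw [or_iff_not_imp_left]
  intro hgK
  have hSK : (S : Subgroup G) ≤ K := hS.trans le_sup_left
  have hcS : ∀ x ∈ (S : Subgroup G), ∀ y ∈ (S : Subgroup G), x * y = y * x := fun x hx y hy => by
    have h := hK S (x * y) ((S : Subgroup G).mul_mem hx hy)
    calc x * y = (x * y)⁻¹ := (inv_eq_of_mul_eq_one_right h).symm
      _ = y * x := by
        rw [mul_inv_rev, inv_eq_of_mul_eq_one_right (hK S x hx),
          inv_eq_of_mul_eq_one_right (hK S y hy)]
  -- the three involutions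
  have three : ∀ x ∈ (S : Subgroup G), ∀ y ∈ (S : Subgroup G), x ≠ 1 → y ≠ 1 → x ≠ y →
      ∀ z ∈ (S : Subgroup G), z = 1 ∨ z = x ∨ z = y ∨ z = x * y := by
    intro x hx y hy hx1 hy1 hxy
    have hsub : ({1, ⟨x, hx⟩, ⟨y, hy⟩, ⟨x * y, mul_mem hx hy⟩} :
        Finset (S : Subgroup G)) = Finset.univ := by
      refine Finset.eq_univ_of_card _ ?_
      rw [← Nat.card_eq_fintype_card, h4 S]
      have hne : x * y ≠ 1 := fun h => hxy (by
        rw [mul_eq_one_iff_eq_inv] at h; rwa [inv_eq_of_mul_eq_one_right (hK S y hy)] at h)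
      have hnx : x * y ≠ x := fun h => hy1 (mul_eq_left.1 h)
      have hny : x * y ≠ y := fun h => hx1 (mul_eq_right.1 h)
      simp [Finset.card_insert_of_notMem, Subtype.ext_iff, Ne.symm hx1, Ne.symm hy1, hxy,
        Ne.symm hne, Ne.symm hnx, Ne.symm hny]
    intro z hz
    have := Finset.mem_univ (⟨z, hz⟩ : (S : Subgroup G))
    rw [← hsub] at this
    simpa [Subtype.ext_iff] using this
  have fixmem : ∀ n ∈ Subgroup.normalizer ((S : Subgroup G) : Set G),
      ∀ s ∈ (S : Subgroup G), s ≠ 1 → n * s * n⁻¹ = s → n ∈ (S : Subgroup G) := by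
    intro n hn s hs hs1 hns
    have hnS : ∀ v ∈ (S : Subgroup G), n * v * n⁻¹ ∈ (S : Subgroup G) := fun v hv =>
      (Subgroup.mem_normalizer_iff.1 hn v).1 hv
    have h2 : n * n ∈ (S : Subgroup G) := hC S _ fun v hv => by
      suffices n * n * v * (n * n)⁻¹ = v from ((mul_inv_eq_iff_eq_mul.1 this)).symm
      rcases eq_or_ne v 1 with rfl | hv1
      · group
      rcases eq_or_ne v s with rfl | hvs
      · calc n * n * v * (n * n)⁻¹ = n * (n * v * n⁻¹) * n⁻¹ := by group
          _ = v := by rw [hns, hns]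
      rcases three s hs v hv hs1 hv1 (Ne.symm hvs) _ (hnS v hv) with h | h | h | h
      · exact absurd (conj_eq_one_iff.1 h) hv1
      · exact absurd (mul_left_cancel (mul_right_cancel (h.trans hns.symm))) hvs
      · calc n * n * v * (n * n)⁻¹ = n * (n * v * n⁻¹) * n⁻¹ := by group
          _ = v := by rw [h, h]
      · calc n * n * v * (n * n)⁻¹ = n * (n * v * n⁻¹) * n⁻¹ := by group
          _ = n * (s * v) * n⁻¹ := by rw [h]
          _ = (n * s * n⁻¹) * (n * v * n⁻¹) := by group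
          _ = v := by rw [hns, h, ← mul_assoc, hK S s hs, one_mul]
    obtain ⟨j, hj⟩ := S.isPGroup' ⟨n * n, h2⟩
    have hp : IsPGroup 2 (Subgroup.zpowers n) := by
      obtain ⟨i, -, hi⟩ := (Nat.dvd_prime_pow Nat.prime_two).1
        (orderOf_dvd_of_pow_eq_one (x := n) (n := 2 ^ (j + 1)) (by
          rw [pow_succ', pow_mul, pow_two]; exact congrArg Subtype.val hj))
      exact IsPGroup.of_card (n := i) (by rw [Nat.card_zpowers, hi])
    have hsup : IsPGroup 2 ((S : Subgroup G) ⊔ Subgroup.zpowers n : Subgroup G) :=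
      S.isPGroup'.to_sup_of_normal_left' hp (Subgroup.zpowers_le.2 hn)
    rw [← S.3 hsup le_sup_left]
    exact Subgroup.mem_sup_right (Subgroup.mem_zpowers n)
  have hgS : ∀ v ∈ (S : Subgroup G), g * v * g⁻¹ ∈ (S : Subgroup G) := fun v hv =>
    (Subgroup.mem_normalizer_iff.1 hgN v).1 hv
  have hgmove : ∀ s ∈ (S : Subgroup G), s ≠ 1 → g * s * g⁻¹ ≠ s := fun s hs hs1 h =>
    hgK (hSK (fixmem g hgN s hs hs1 h))
  -- `S` is self-normalising in `K`
  have hNK : ∀ n ∈ Subgroup.normalizer ((S : Subgroup G) : Set G), n ∈ K →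
      n ∈ (S : Subgroup G) := by
    intro n hn hnK
    by_contra hnS
    have hnm : ∀ s ∈ (S : Subgroup G), s ≠ 1 → n * s * n⁻¹ ≠ s := fun s hs hs1 h =>
      hnS (fixmem n hn s hs hs1 h)
    haveI : Nontrivial (S : Subgroup G) := Finite.one_lt_card_iff_nontrivial.1 (by rw [h4 S]; norm_num)
    obtain ⟨⟨s, hs⟩, hs'⟩ := exists_ne (1 : (S : Subgroup G))
    have hs1 : s ≠ 1 := fun h => hs' (Subtype.ext h)
    have hn' : n * s * n⁻¹ ∈ (S : Subgroup G) := (Subgroup.mem_normalizer_iff.1 hn s).1 hs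
    have hback : ∀ m ∈ Subgroup.normalizer ((S : Subgroup G) : Set G), m ∈ K →
        m * s * m⁻¹ = g * s * g⁻¹ → False := by
      intro m hm hmK e
      refine hgK ?_
      have h1 := fixmem (m⁻¹ * g) (mul_mem (inv_mem hm) hgN) s hs hs1 (by
        calc m⁻¹ * g * s * (m⁻¹ * g)⁻¹ = m⁻¹ * (g * s * g⁻¹) * m := by group
          _ = s := by rw [← e]; group)
      simpa using K.mul_mem hmK (hSK h1)
    rcases three s hs _ hn' hs1 (fun h => hs1 (conj_eq_one_iff.1 h)) (hnm s hs hs1).symm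
        _ (hgS s hs) with h | h | h | h
    · exact hs1 (conj_eq_one_iff.1 h)
    · exact hgmove s hs hs1 h
    · exact hback n hn hnK h.symm
    · refine hback (n * n) (mul_mem hn hn) (K.mul_mem hnK hnK) ?_
      rw [h]
      have hn2 : n * (n * s * n⁻¹) * n⁻¹ ∈ (S : Subgroup G) :=
        (Subgroup.mem_normalizer_iff.1 hn _).1 hn'
      rw [show n * n * s * (n * n)⁻¹ = n * (n * s * n⁻¹) * n⁻¹ by group]
      rcases three s hs _ hn' hs1 (fun h => hs1 (conj_eq_one_iff.1 h)) (hnm s hs hs1).symm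
          _ hn2 with e | e | e | e
      · exact absurd (conj_eq_one_iff.1 (conj_eq_one_iff.1 e)) hs1
      · -- `n` would fix the third involution
        exfalso
        refine hnm (s * (n * s * n⁻¹)) (mul_mem hs hn') (fun h1 => hnm s hs hs1 ?_) ?_
        · rw [mul_eq_one_iff_inv_eq, inv_eq_of_mul_eq_one_right (hK S s hs)] at h1
          exact h1.symm
        · calc n * (s * (n * s * n⁻¹)) * n⁻¹
              = (n * s * n⁻¹) * (n * (n * s * n⁻¹) * n⁻¹) := by group
            _ = (n * s * n⁻¹) * s := by rw [e]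
            _ = s * (n * s * n⁻¹) := hcS _ hn' _ hs
      · exact absurd e (hnm _ hn' (fun h => hs1 (conj_eq_one_iff.1 h)))
      · exact e
  -- the normal complement of `S` in `K`
  set T : Sylow 2 K := S.subtype hSK with hT
  have hTN : Subgroup.normalizer ((T : Subgroup K) : Set K) ≤
      Subgroup.centralizer ((T : Subgroup K) : Set K) := by
    intro n hn
    have hnS : (n : G) ∈ (S : Subgroup G) := by
      refine hNK _ ?_ n.2
      rw [Subgroup.mem_normalizer_iff]
      intro v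
      constructor
      · intro hv
        exact (Subgroup.mem_normalizer_iff.1 hn ⟨v, hSK hv⟩).1 hv
      · intro hv
        have h1 := (Subgroup.mem_normalizer_iff.1 (inv_mem hn)
          ⟨(n : G) * v * (n : G)⁻¹, hSK hv⟩).1 hv
        simpa [hT, Sylow.coe_subtype, Subgroup.mem_subgroupOf, mul_assoc] using h1
    exact Subgroup.mem_centralizer_iff.2 fun v hv => Subtype.ext (hcS _ hv _ hnS)
  obtain ⟨O₀, hO₀n, hc⟩ : ∃ O₀ : Subgroup K, O₀.Normal ∧
      Subgroup.IsComplement' O₀ (T : Subgroup K) :=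
    ⟨_, MonoidHom.normal_ker _, MonoidHom.ker_transferSylow_isComplement' T hTN⟩
  have hT4 : Nat.card (T : Subgroup K) = 4 := by
    rw [hT, Sylow.coe_subtype, Nat.card_congr (Subgroup.subgroupOfEquivOfLe hSK).toEquiv, h4 S]
  have hO₀i : O₀.index = 4 := by rw [hc.symm.index_eq_card, hT4]
  have hO₀ : Odd (Nat.card O₀) := by
    rw [← hc.index_eq_card, Nat.odd_iff, ← Nat.two_dvd_ne_zero]
    exact T.not_dvd_index
  set O := O₀.map K.subtype with hO
  have hOc : Odd (Nat.card O) := by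
    rwa [hO, Subgroup.card_map_of_injective K.subtype_injective]
  have hOK : O ≤ K := Subgroup.map_subtype_le _
  have hOn : ∀ x ∈ K, ∀ o ∈ O, x * o * x⁻¹ ∈ O := by
    rintro x hx _ ⟨o, ho, rfl⟩
    exact ⟨⟨x, hx⟩ * o * ⟨x, hx⟩⁻¹, hO₀n.conj_mem o ho _, rfl⟩
  have hOodd : ∀ x ∈ K, Odd (orderOf x) → x ∈ O := by
    intro x hx hxo
    refine ⟨⟨x, hx⟩, ?_, rfl⟩
    have h1 := Subgroup.pow_index_mem O₀ (⟨x, hx⟩ : K)
    rw [hO₀i] at h1
    obtain ⟨m, hm⟩ := exists_pow_eq_self_of_coprime (x := (⟨x, hx⟩ : K)) (n := 4) (by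
      rw [Subgroup.orderOf_mk]
      exact ((Nat.coprime_two_left.2 hxo).pow_left 2 : Nat.Coprime (2 ^ 2) (orderOf x)))
    exact hm ▸ pow_mem h1 m
  have hOS : ∀ x ∈ O, x ∈ (S : Subgroup G) → x = 1 := by
    rintro _ ⟨o, ho, rfl⟩ hoS
    have : o ∈ O₀ ⊓ (T : Subgroup K) := ⟨ho, hoS⟩
    rw [hc.disjoint.eq_bot, Subgroup.mem_bot] at this
    rw [this]; rfl
  -- nothing of odd order in `H`
  by_contra hne
  obtain ⟨a, haH, haO, ha1⟩ : ∃ a ∈ H, a ∈ O ∧ a ≠ 1 := by
    by_contra hall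
    push Not at hall
    refine hne ?_
    have hHS : H = (S : Subgroup G) := by
      refine le_antisymm (fun h hh => ?_) hS
      obtain ⟨⟨⟨o, ho⟩, ⟨s, hs⟩⟩, hos⟩ := hc.2 ⟨h, Subgroup.mem_sup_left hh⟩
      have e : (o : G) * (s : G) = h := congrArg Subtype.val hos
      have ho1 : (o : G) = 1 := by
        refine hall _ ?_ ⟨o, ho, rfl⟩
        rw [show (o : G) = h * (s : G)⁻¹ by rw [← e, mul_inv_cancel_right]]
        exact H.mul_mem hh (H.inv_mem (hS hs))
      rw [← e, ho1, one_mul]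
      exact hs
    rw [hHS]
    exact CfsgLib.Known.map_conj_eq_of_mem hgN
  set A := H ⊓ O with hA
  have hAn : ∀ s ∈ (S : Subgroup G), ∀ x ∈ A, s * x * s ∈ A := fun s hs x hx => by
    have h1 : s⁻¹ = s := inv_eq_of_mul_eq_one_right (hK S s hs)
    refine ⟨H.mul_mem (H.mul_mem (hS hs) hx.1) (hS hs), ?_⟩
    have := hOn s (hSK hs) x hx.2
    rwa [h1] at this
  obtain ⟨t, htS, ht1, b, hbA, hb1, htb⟩ : ∃ t ∈ (S : Subgroup G), t ≠ 1 ∧
      ∃ b ∈ A, b ≠ 1 ∧ t * b = b * t := by
    by_contra hall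
    push Not at hall
    have hinv : ∀ t ∈ (S : Subgroup G), t ≠ 1 → ∀ x ∈ A, t * x * t = x⁻¹ := fun t ht ht1 =>
      inverts_of_fpf (hK S t ht) (hAn t ht) fun x hx hc => by
        by_contra hx1; exact hall t ht ht1 x hx hx1 hc
    haveI : Nontrivial (S : Subgroup G) := Finite.one_lt_card_iff_nontrivial.1 (by rw [h4 S]; norm_num)
    obtain ⟨⟨x, hx⟩, hx'⟩ := exists_ne (1 : (S : Subgroup G))
    have hx1 : x ≠ 1 := fun h => hx' (Subtype.ext h)
    obtain ⟨y, hy, hy1, hxy⟩ : ∃ y ∈ (S : Subgroup G), y ≠ 1 ∧ x ≠ y := by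
      by_contra hy
      push Not at hy
      have hle : (S : Subgroup G) ≤ Subgroup.zpowers x := fun z hz => by
        rcases eq_or_ne z 1 with rfl | hz1
        · exact one_mem _
        · rw [← hy z hz hz1]; exact Subgroup.mem_zpowers x
      have h := Subgroup.card_le_of_le hle
      rw [h4 S, Nat.card_zpowers,
        orderOf_eq_prime (by rw [pow_two]; exact hK S x hx) hx1] at h
      omega
    have hz : x * y ≠ 1 := fun h => hxy (by
      rw [mul_eq_one_iff_eq_inv] at h; rwa [inv_eq_of_mul_eq_one_right (hK S y hy)] at h)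
    refine hall (x * y) (mul_mem hx hy) hz a ⟨haH, haO⟩ ha1 ?_
    have h1 := hinv x hx hx1 a ⟨haH, haO⟩
    have h2 := hinv y hy hy1 a⁻¹ (inv_mem ⟨haH, haO⟩)
    have h3 : x * y * a = a * (x * y) := by
      have e : x * y * a * (y * x) = a := by
        calc x * y * a * (y * x) = x * (y * a * y) * x := by simp only [mul_assoc]
          _ = x * a⁻¹ * x := by rw [hinv y hy hy1 a ⟨haH, haO⟩]
          _ = a := by rw [hinv x hx hx1 a⁻¹ (inv_mem ⟨haH, haO⟩), inv_inv]
      calc x * y * a = x * y * a * ((y * x) * (x * y)) := by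
            rw [mul_assoc y x, ← mul_assoc x x y, hK S x hx, one_mul, hK S y hy, mul_one]
        _ = a * (x * y) := by rw [← mul_assoc, e]
    exact h3
  set t' := g * t * g⁻¹ with ht'
  set b' := g * b * g⁻¹ with hb'
  have hbO : b ∈ O := hbA.2
  have hb'K : b' ∈ K := Subgroup.mem_sup_right ⟨b, hbA.1, rfl⟩
  have hb'o : Odd (orderOf b') := by
    rw [hb', ← MulAut.conj_apply, MulEquiv.orderOf_eq]
    exact hOc.of_dvd_nat (Subgroup.orderOf_dvd_natCard O hbO)
  have hb'O : b' ∈ O := hOodd _ hb'K hb'o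
  have hto : orderOf t = 2 := orderOf_eq_prime (by rw [pow_two]; exact hK S t htS) ht1
  have ht'o : orderOf t' = 2 := by rw [ht', ← MulAut.conj_apply, MulEquiv.orderOf_eq, hto]
  have c1 := card_fusion_set O hOc key hto ⟨b, hbO, hb1, htb⟩
  have c2 := card_fusion_set O hOc key ht'o ⟨b', hb'O, fun h => hb1 (conj_eq_one_iff.1 h),
    Commute.conj_iff g |>.2 htb⟩
  set P1 := fun y : G => y ∈ O ∧ y ≠ 1 ∧ ∃ x ∈ O, Commute (x * t * x⁻¹) y
  set P2 := fun y : G => y ∈ O ∧ y ≠ 1 ∧ ∃ x ∈ O, Commute (x * t' * x⁻¹) y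
  have hdisj : ∀ y, P1 y → P2 y → False := by
    rintro y ⟨hy, hy1, x, hx, hxy⟩ ⟨-, -, z, hz, hzy⟩
    have e := key _ _ y (by rw [← MulAut.conj_apply, MulEquiv.orderOf_eq]; exact hto)
      (by rw [← MulAut.conj_apply, MulEquiv.orderOf_eq]; exact ht'o) hy1
      (hOc.of_dvd_nat (Subgroup.orderOf_dvd_natCard O hy)) hxy hzy
    set w := z⁻¹ * x
    have hw : w * t * w⁻¹ = t' := by
      rw [show w * t * w⁻¹ = z⁻¹ * (x * t * x⁻¹) * z by simp only [w]; group, e]; group
    have hwO : w ∈ O := O.mul_mem (O.inv_mem hz) hx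
    have h1 : t' * t⁻¹ ∈ O := by
      rw [← hw, show w * t * w⁻¹ * t⁻¹ = w * (t * w⁻¹ * t⁻¹) by group]
      exact O.mul_mem hwO (hOn t (hSK htS) _ (O.inv_mem hwO))
    exact hgmove t htS ht1 (mul_inv_eq_one.1
      (hOS _ h1 ((S : Subgroup G).mul_mem (hgS t htS) ((S : Subgroup G).inv_mem htS))))
  let f : {y // P1 y} ⊕ {y // P2 y} → {y : O // y ≠ 1} :=
    Sum.elim (fun y => ⟨⟨y.1, y.2.1⟩, fun h => y.2.2.1 (congrArg Subtype.val h)⟩)
      (fun y => ⟨⟨y.1, y.2.1⟩, fun h => y.2.2.1 (congrArg Subtype.val h)⟩)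
  have hf : Function.Injective f := by
    rintro (u | u) (v | v) h <;> simp only [f, Sum.elim_inl, Sum.elim_inr, Subtype.mk.injEq] at h
    · exact congrArg Sum.inl (Subtype.ext h)
    · exact (hdisj _ u.2 (h ▸ v.2)).elim
    · exact (hdisj _ v.2 (h ▸ u.2)).elim
    · exact congrArg Sum.inr (Subtype.ext h)
  have hcard := Nat.card_le_card_of_injective f hf
  rw [Nat.card_sum] at hcard
  have hO1 : Nat.card {y : O // y ≠ 1} + 1 = Nat.card O := by
    haveI := Fintype.ofFinite O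
    rw [Nat.card_eq_fintype_card, Nat.card_eq_fintype_card, Fintype.card_subtype_compl,
      Fintype.card_subtype_eq]
    have : 0 < Fintype.card O := Fintype.card_pos
    omega
  have c1' : Nat.card O ≤ 2 * Nat.card {y : G // P1 y} := c1
  have c2' : Nat.card O ≤ 2 * Nat.card {y : G // P2 y} := c2
  omega

end CfsgLib.PronormalPSL
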