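/-
The diagonal matrices normalise every subgroup containing the upper unitriangular matrices.
-/
import Cfsg.Agent.Lib.Fusion.UniTri
import Cfsg.Agent.Lib.GLUnipotent.Bruhat

set_option autoImplicit false

namespace CfsgLib.PronormalPSL

open Matrix CfsgLib.Fusion.UniTri

variable {F : Type*} [Field F] {n : ℕ}

/-- Diagonal invertible matrices. -/
def dg : (Fin n → Fˣ) →* GL (Fin n) F :=
  (Units.map (Matrix.diagonalRingHom (Fin n) F).toMonoidHom).comp
    MulEquiv.piUnits.symm.toMonoidHom

theorem dg_val (v : Fin n → Fˣ) : (dg v).1 = diagonal fun i => (v i : F) := rfl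

/-- Elementary matrices. -/
abbrev tgl {i j : Fin n} (h : i ≠ j) (c : F) : GL (Fin n) F :=
  SpecialLinearGroup.toGL (el h c)

theorem tgl_val {i j : Fin n} (h : i ≠ j) (c : F) : (tgl h c).1 = transvection i j c := rfl

/-- Monomial matrices. -/
def Mono (π : Equiv.Perm (Fin n)) (M : Matrix (Fin n) (Fin n) F) : Prop :=
  ∀ x y, x ≠ π y → M x y = 0

theorem Mono.mul {π ρ : Equiv.Perm (Fin n)} {M N : Matrix (Fin n) (Fin n) F} (hM : Mono π M)
    (hN : Mono ρ N) : Mono (π * ρ) (M * N) := fun x y h => by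
  rw [Matrix.mul_apply]
  refine Finset.sum_eq_zero fun z _ => ?_
  by_cases hz : z = ρ y
  · subst hz; rw [hM x _ h, zero_mul]
  · rw [hN z y hz, mul_zero]

theorem mono_dg (v : Fin n → Fˣ) : Mono 1 (dg v).1 := fun x y h => by
  rw [dg_val]; exact diagonal_apply_ne _ h

theorem mono_permGL (π : Equiv.Perm (Fin n)) :
    Mono π (CfsgLib.GLUnipotent.permGL n F π).1 := fun x y h => by
  rw [CfsgLib.GLUnipotent.permGL_val]
  simp [CfsgLib.GLUnipotent.pmat, h]

theorem Mono.ne_zero {π : Equiv.Perm (Fin n)} {g : GL (Fin n) F} (h : Mono π g.1) (y : Fin n) :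
    g.1 (π y) y ≠ 0 := fun h0 => by
  have e := congrFun (congrFun (g.inv_mul) y) y
  rw [Matrix.mul_apply, one_apply_eq] at e
  refine zero_ne_one ((Finset.sum_eq_zero fun z _ => ?_).symm.trans e)
  by_cases hz : z = π y
  · subst hz; rw [h0, mul_zero]
  · rw [h z y hz, mul_zero]

theorem Mono.conj_tgl {π : Equiv.Perm (Fin n)} {g : GL (Fin n) F} (h : Mono π g.1) {i j : Fin n}
    (hij : i ≠ j) (c : F) :
    g * tgl hij c = tgl (π.injective.ne hij) (c * g.1 (π i) i / g.1 (π j) j) * g := by
  refine Units.ext ?_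
  ext x y
  rw [Units.val_mul, Units.val_mul, tgl_val, tgl_val, mul_transvection_apply,
    transvection_mul_apply]
  congr 1
  by_cases hy : y = j
  · subst hy
    rw [if_pos rfl]
    by_cases hx : x = π i
    · subst hx
      rw [if_pos rfl, div_mul_cancel₀ _ (h.ne_zero y), mul_comm]
    · rw [if_neg hx, h x i hx, mul_zero]
  · rw [if_neg hy]
    by_cases hx : x = π i
    · subst hx
      rw [if_pos rfl, h (π j) y (fun e => hy (π.injective e).symm), mul_zero]
    · rw [if_neg hx]

theorem dg_tgl (v : Fin n → Fˣ) {i j : Fin n} (hij : i ≠ j) (c : F) :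
    dg v * tgl hij c * (dg v)⁻¹ = tgl hij (c * v i / v j) := by
  rw [mul_inv_eq_iff_eq_mul, (mono_dg v).conj_tgl hij c]
  congr 2
  simp [dg_val]

/-- The elements of `H` all of whose diagonal conjugates lie in `H`. -/
def stable (H : Subgroup (GL (Fin n) F)) : Subgroup (GL (Fin n) F) where
  carrier := {h | h ∈ H ∧ ∀ v, dg v * h * (dg v)⁻¹ ∈ H}
  one_mem' := ⟨H.one_mem, fun v => by simp⟩
  mul_mem' := fun {a b} ha hb => ⟨H.mul_mem ha.1 hb.1, fun v => by
    rw [show dg v * (a * b) * (dg v)⁻¹ = (dg v * a * (dg v)⁻¹) * (dg v * b * (dg v)⁻¹) by group]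
    exact H.mul_mem (ha.2 v) (hb.2 v)⟩
  inv_mem' := fun {a} ha => ⟨H.inv_mem ha.1, fun v => by
    rw [show dg v * a⁻¹ * (dg v)⁻¹ = (dg v * a * (dg v)⁻¹)⁻¹ by group]
    exact H.inv_mem (ha.2 v)⟩

theorem mono_swap_word {a b : Fin n} (hab : a ≠ b) :
    Mono (Equiv.swap a b) (tgl hab (1 : F) * tgl hab.symm (-1) * tgl hab 1).1 := by
  intro x y h
  rw [Units.val_mul, Units.val_mul, tgl_val, tgl_val, mul_transvection_apply,
    mul_transvection_apply, mul_transvection_apply]
  by_cases hyb : y = b
  · subst hyb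
    rw [Equiv.swap_apply_right] at h
    rcases eq_or_ne x y with rfl | hxy
    · simp [transvection, Matrix.add_apply, one_apply_ne, single_apply_of_ne, hab, hab.symm]
    · simp [transvection, Matrix.add_apply, one_apply_ne, single_apply_of_ne, hab, hab.symm, h, hxy,
        Ne.symm h, Ne.symm hxy]
  · by_cases hya : y = a
    · subst hya
      rw [Equiv.swap_apply_left] at h
      rcases eq_or_ne x y with rfl | hxy
      · simp [transvection, Matrix.add_apply, one_apply_ne, single_apply_of_ne, hab, hab.symm]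
      · simp [transvection, Matrix.add_apply, one_apply_ne, single_apply_of_ne, hab, hab.symm, h,
          hxy, Ne.symm h, Ne.symm hxy]
    · rw [Equiv.swap_apply_of_ne_of_ne hya hyb] at h
      simp [transvection, Matrix.add_apply, one_apply_ne, single_apply_of_ne, hya, hyb, Ne.symm hyb,
        h]

theorem exists_descent {π : Equiv.Perm (Fin n)} (hπ : π ≠ 1) :
    ∃ a b : Fin n, a < b ∧ b.val = a.val + 1 ∧ π b < π a := by
  by_contra hall
  push Not at hall
  refine hπ ?_
  rcases n with _ | m
  · exact Equiv.ext fun i => i.elim0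
  have hs : StrictMono π := Fin.strictMono_iff_lt_succ.2 fun i =>
    (hall i.castSucc i.succ Fin.castSucc_lt_succ (by simp)).lt_of_ne
      (fun e => Fin.castSucc_lt_succ.ne (π.injective e))
  have h1 : hs.orderIsoOfSurjective π π.surjective = OrderIso.refl _ := Subsingleton.elim _ _
  exact Equiv.ext fun i => congrArg (fun e : Fin (m + 1) ≃o Fin (m + 1) => e i) h1

theorem mem_stable_of_mono (H : Subgroup (GL (Fin n) F))
    (hU : ∀ (i j : Fin n) (h : i < j) (c : F), tgl h.ne c ∈ H) :
    ∀ (k : ℕ) (π : Equiv.Perm (Fin n)) (g : GL (Fin n) F), Mono π g.1 → g ∈ H →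
      n * n * n ≤ k + ∑ i : Fin n, i.val * (π i).val → g ∈ stable H := by
  have hUs : ∀ (i j : Fin n) (h : i < j) (c : F), tgl h.ne c ∈ stable H := fun i j h c =>
    ⟨hU i j h c, fun v => by rw [dg_tgl]; exact hU i j h _⟩
  intro k
  induction k using Nat.strong_induction_on with
  | _ k ih =>
    intro π g hm hg hk
    by_cases hπ : π = 1
    · subst hπ
      refine ⟨hg, fun v => ?_⟩
      have e : dg v * g = g * dg v := by
        refine Units.ext ?_
        ext x y
        rw [Units.val_mul, Units.val_mul, dg_val, diagonal_mul, mul_diagonal]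
        by_cases hxy : x = y
        · subst hxy; exact mul_comm _ _
        · rw [hm x y hxy, zero_mul, mul_zero]
      rwa [e, mul_inv_cancel_right]
    · obtain ⟨a, b, hab, hb, hd⟩ := exists_descent hπ
      have hlow : ∀ c : F, tgl hab.ne' c ∈ stable H := by
        intro c
        have hmem : ∀ c, tgl hab.ne' c ∈ H := fun c => by
          have e := hm.conj_tgl hab.ne' c
          rw [show tgl hab.ne' c = g⁻¹ * (tgl (π.injective.ne hab.ne')
              (c * g.1 (π b) b / g.1 (π a) a) * g) by rw [← e, inv_mul_cancel_left]]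
          exact H.mul_mem (H.inv_mem hg) (H.mul_mem (hU _ _ hd _) hg)
        exact ⟨hmem c, fun v => by rw [dg_tgl]; exact hmem _⟩
      set w := tgl hab.ne (1 : F) * tgl hab.ne' (-1) * tgl hab.ne 1 with hw
      have hws : w ∈ stable H :=
        (stable H).mul_mem ((stable H).mul_mem (hUs a b hab 1) (hlow _)) (hUs a b hab 1)
      have hgw : Mono (π * Equiv.swap a b) (g * w).1 := by
        rw [Units.val_mul]
        exact hm.mul (mono_swap_word hab.ne)
      have hsum : ∑ i : Fin n, i.val * (π i).val <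
          ∑ i : Fin n, i.val * ((π * Equiv.swap a b) i).val := by
        rw [← Finset.sum_erase_add _ _ (Finset.mem_univ b),
          ← Finset.sum_erase_add _ _ (Finset.mem_univ b),
          ← Finset.sum_erase_add _ _ (Finset.mem_erase.2 ⟨hab.ne, Finset.mem_univ a⟩),
          ← Finset.sum_erase_add _ _ (Finset.mem_erase.2 ⟨hab.ne, Finset.mem_univ a⟩)]
        rw [Finset.sum_congr rfl fun i hi => show i.val * ((π * Equiv.swap a b) i).val =
          i.val * (π i).val by
            simp only [Finset.mem_erase] at hi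
            rw [Equiv.Perm.mul_apply, Equiv.swap_apply_of_ne_of_ne hi.1 hi.2.1]]
        rw [Equiv.Perm.mul_apply, Equiv.Perm.mul_apply, Equiv.swap_apply_left,
          Equiv.swap_apply_right, hb, add_one_mul, add_one_mul]
        have := Fin.lt_def.1 hd
        omega
      have hbd : ∑ i : Fin n, i.val * (π i).val ≤ n * n * n := by
        refine (Finset.sum_le_card_nsmul _ _ (n * n) fun i _ => ?_).trans (by simp [mul_assoc])
        exact Nat.mul_le_mul i.isLt.le (π i).isLt.le
      have hbd' : ∑ i : Fin n, i.val * ((π * Equiv.swap a b) i).val ≤ n * n * n := by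
        refine (Finset.sum_le_card_nsmul _ _ (n * n) fun i _ => ?_).trans (by simp [mul_assoc])
        exact Nat.mul_le_mul i.isLt.le (Fin.isLt _).le
      have h1 := ih (n * n * n - ∑ i : Fin n, i.val * ((π * Equiv.swap a b) i).val) (by omega) _
        (g * w) hgw (H.mul_mem hg hws.1) (by omega)
      have h2 := (stable H).mul_mem h1 ((stable H).inv_mem hws)
      rwa [mul_inv_cancel_right] at h2

theorem isUni_mem [Finite F] (H : Subgroup (GL (Fin n) F))
    (hU : ∀ (i j : Fin n) (h : i < j) (c : F), tgl h.ne c ∈ H)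
    {u : SpecialLinearGroup (Fin n) F} (hu : IsUni u.1) : SpecialLinearGroup.toGL u ∈ H :=
  (Subgroup.closure_le (K := H.comap SpecialLinearGroup.toGL)).2
    (by rintro _ ⟨i, j, h, c, rfl⟩; exact hU i j h c) (upper_le_closure (mem_upper.2 hu))

theorem exists_uni_diag {b : GL (Fin n) F} (hb : b ∈ Cfsg.upperTriangularGL n F) :
    ∃ u : SpecialLinearGroup (Fin n) F, IsUni u.1 ∧ ∃ v, b = SpecialLinearGroup.toGL u * dg v := by
  have hb' : ∀ i j : Fin n, j < i → b.1 i j = 0 := fun i j h => hb h
  have hne : ∀ i, b.1 i i ≠ 0 := by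
    intro i h0
    have hd : b.1.det ≠ 0 := (Matrix.isUnit_iff_isUnit_det _).1 b.isUnit |>.ne_zero
    rw [Matrix.det_of_upperTriangular (fun x y h => hb' x y h)] at hd
    exact hd (Finset.prod_eq_zero (Finset.mem_univ i) h0)
  let v : Fin n → Fˣ := fun i => Units.mk0 _ (hne i)
  have hu : IsUni (b * (dg v)⁻¹).1 := by
    rw [← map_inv, Units.val_mul, dg_val]
    refine ⟨fun x y h => ?_, fun x => ?_⟩
    · rw [mul_diagonal, hb' x y h, zero_mul]
    · rw [mul_diagonal, Pi.inv_apply, Units.val_inv_eq_inv_val]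
      exact mul_inv_cancel₀ (hne x)
  refine ⟨⟨(b * (dg v)⁻¹).1, ?_⟩, hu, v, ?_⟩
  · rw [Matrix.det_of_upperTriangular (fun x y h => hu.1 x y h)]
    exact Finset.prod_eq_one fun x _ => hu.2 x
  · rw [← mul_inv_eq_iff_eq_mul]
    exact Units.ext rfl

/-- The diagonal matrices normalise the overgroups of the unitriangular group. -/
theorem le_stable [Finite F] (H : Subgroup (GL (Fin n) F))
    (hU : ∀ (i j : Fin n) (h : i < j) (c : F), tgl h.ne c ∈ H) : H ≤ stable H := by
  intro g hg
  obtain ⟨b, hb, b', hb', π, e⟩ := CfsgLib.GLUnipotent.bruhat g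
  obtain ⟨u, hu, v, ev⟩ := exists_uni_diag hb
  obtain ⟨u', hu', v', ev'⟩ := exists_uni_diag ((Cfsg.upperTriangularGL n F).inv_mem hb')
  have hUs : ∀ (i j : Fin n) (h : i < j) (c : F), tgl h.ne c ∈ stable H := fun i j h c =>
    ⟨hU i j h c, fun w => by rw [dg_tgl]; exact hU i j h _⟩
  set m := dg v * CfsgLib.GLUnipotent.permGL n F π * dg v'⁻¹ with hmdef
  have e2 : g = SpecialLinearGroup.toGL u * m * (SpecialLinearGroup.toGL u')⁻¹ := by
    rw [e, ev, show b' = (b'⁻¹)⁻¹ from (inv_inv b').symm, ev', hmdef, map_inv]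
    group
  have hm : Mono π m.1 := by
    rw [hmdef, Units.val_mul, Units.val_mul]
    have := ((mono_dg v).mul (mono_permGL π)).mul (mono_dg v'⁻¹)
    rwa [one_mul, mul_one] at this
  have hmH : m ∈ H := by
    have := H.mul_mem (H.mul_mem (H.inv_mem (isUni_mem H hU hu)) hg) (isUni_mem H hU hu')
    rw [e2] at this
    simpa [mul_assoc] using this
  rw [e2]
  exact (stable H).mul_mem ((stable H).mul_mem (isUni_mem _ hUs hu)
    (mem_stable_of_mono H hU (n * n * n) π m hm hmH (Nat.le_add_right _ _)))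
    ((stable H).inv_mem (isUni_mem _ hUs hu'))

end CfsgLib.PronormalPSL
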