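/-
Block diagonal matrices and the spectral asymmetry used to recognise the base of a wreath product.
-/
import Mathlib

set_option autoImplicit false

namespace CfsgLib.PronormalPSL

open Matrix

variable {F : Type*} [Field F] {ι : Type*} [Fintype ι] [DecidableEq ι]

/-- Scalar matrices. -/
def scal (F : Type*) [Field F] (ι : Type*) [Fintype ι] [DecidableEq ι] : Fˣ →* GL ι F :=
  Units.map (Matrix.scalar ι).toMonoidHom

theorem scal_val (r : Fˣ) : (scal F ι r).1 = (r : F) • (1 : Matrix ι ι F) := by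
  show Matrix.scalar ι (r : F) = _
  rw [Matrix.scalar_apply, Matrix.smul_one_eq_diagonal]

/-- The number of fixed vectors. -/
noncomputable def fx (M : Matrix ι ι F) : ℕ := Nat.card {v : ι → F // M *ᵥ v = v}

/-- A matrix that is visibly not similar to its negative. -/
def Asym (g : GL ι F) : Prop := Matrix.trace g.1 ≠ 0 ∨ fx g.1 ≠ fx (-g.1)

theorem fx_conj (a : GL ι F) (M : Matrix ι ι F) :
    fx (a.1 * M * (a⁻¹).1) = fx M := by
  have h1 : ∀ v : ι → F, (a⁻¹).1 *ᵥ (a.1 *ᵥ v) = v := fun v => by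
    rw [mulVec_mulVec, ← Units.val_mul, inv_mul_cancel, Units.val_one, one_mulVec]
  have h2 : ∀ v : ι → F, a.1 *ᵥ ((a⁻¹).1 *ᵥ v) = v := fun v => by
    rw [mulVec_mulVec, ← Units.val_mul, mul_inv_cancel, Units.val_one, one_mulVec]
  refine Nat.card_congr
    { toFun := fun v => ⟨(a⁻¹).1 *ᵥ v.1, by
        conv_rhs => rw [← v.2]
        rw [← mulVec_mulVec v.1 (a.1 * M), ← mulVec_mulVec _ a.1, h1]⟩
      invFun := fun v => ⟨a.1 *ᵥ v.1, by
        rw [← mulVec_mulVec _ (a.1 * M), h1, ← mulVec_mulVec, v.2]⟩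
      left_inv := fun v => Subtype.ext (h2 v.1)
      right_inv := fun v => Subtype.ext (h1 v.1) }

theorem Asym.conj {g : GL ι F} (h : Asym g) (a : GL ι F) : Asym (a * g * a⁻¹) := by
  rcases h with h | h
  · refine Or.inl ?_
    rwa [Units.val_mul, Units.val_mul, Matrix.trace_units_conj]
  · refine Or.inr ?_
    rw [Units.val_mul, Units.val_mul, fx_conj,
      show -(a.1 * g.1 * (a⁻¹).1) = a.1 * (-g.1) * (a⁻¹).1 by noncomm_ring, fx_conj]
    exact h

theorem fx_one [Finite F] : fx (1 : Matrix ι ι F) = Nat.card F ^ Fintype.card ι := by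
  rw [fx, Nat.card_congr (Equiv.subtypeUnivEquiv fun v => one_mulVec v), Nat.card_fun,
    Nat.card_eq_fintype_card (α := ι)]

theorem fx_neg_one (h2 : (2 : F) ≠ 0) : fx (-1 : Matrix ι ι F) = 1 := by
  haveI : Subsingleton {v : ι → F // (-1 : Matrix ι ι F) *ᵥ v = v} := by
    refine ⟨fun u v => Subtype.ext (funext fun i => ?_)⟩
    have hz : ∀ w : {v : ι → F // (-1 : Matrix ι ι F) *ᵥ v = v}, w.1 i = 0 := fun w => by
      have h := congrFun w.2 i
      rw [neg_mulVec, one_mulVec, Pi.neg_apply] at h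
      exact (mul_eq_zero.1 (show (2 : F) * w.1 i = 0 by linear_combination -h)).resolve_left h2
    rw [hz, hz]
  exact Nat.card_eq_one_iff_unique.2 ⟨inferInstance, ⟨⟨0, mulVec_zero _⟩⟩⟩

theorem fx_le [Finite F] (M : Matrix ι ι F) : fx M ≤ Nat.card F ^ Fintype.card ι := by
  rw [← fx_one (F := F) (ι := ι), fx, fx,
    Nat.card_congr (Equiv.subtypeUnivEquiv fun v => one_mulVec v)]
  exact Nat.card_le_card_of_injective Subtype.val Subtype.val_injective

theorem fx_pos [Finite F] (M : Matrix ι ι F) : 0 < fx M :=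
  haveI : Nonempty {v : ι → F // M *ᵥ v = v} := ⟨⟨0, mulVec_zero M⟩⟩
  Nat.card_pos

theorem eq_one_of_fx [Finite F] {M : Matrix ι ι F} (h : Nat.card F ^ Fintype.card ι ≤ fx M) :
    M = 1 := by
  haveI := Fintype.ofFinite F
  have hb : Function.Bijective (Subtype.val : {v : ι → F // M *ᵥ v = v} → (ι → F)) := by
    refine Subtype.val_injective.bijective_of_nat_card_le ?_
    rwa [Nat.card_fun, Nat.card_eq_fintype_card (α := ι)]
  refine Matrix.toLin'.injective (LinearMap.ext fun v => ?_)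
  obtain ⟨u, rfl⟩ := hb.2 v
  rw [Matrix.toLin'_apply, Matrix.toLin'_apply, one_mulVec, u.2]

theorem fx_fromBlocks (A B : Matrix ι ι F) :
    fx (fromBlocks A 0 0 B) = fx A * fx B := by
  rw [fx, fx, fx, ← Nat.card_prod]
  refine Nat.card_congr
    { toFun := fun v =>
        have h : Sum.elim (A *ᵥ (v.1 ∘ Sum.inl)) (B *ᵥ (v.1 ∘ Sum.inr)) = v.1 := by
          simpa [fromBlocks_mulVec] using v.2
        (⟨v.1 ∘ Sum.inl, funext fun i => congrFun h (Sum.inl i)⟩,
          ⟨v.1 ∘ Sum.inr, funext fun i => congrFun h (Sum.inr i)⟩)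
      invFun := fun p => ⟨Sum.elim p.1.1 p.2.1, by
        rw [fromBlocks_mulVec]
        funext i
        rcases i with i | i <;> simp [p.1.2, p.2.2]⟩
      left_inv := fun v => Subtype.ext (Sum.elim_comp_inl_inr v.1)
      right_inv := fun p => rfl }

/-- Block diagonal pairs. -/
def bd : GL ι F × GL ι F →* GL (ι ⊕ ι) F where
  toFun p := ⟨fromBlocks p.1.1 0 0 p.2.1, fromBlocks (p.1⁻¹).1 0 0 (p.2⁻¹).1,
    by simp [fromBlocks_multiply], by simp [fromBlocks_multiply]⟩
  map_one' := Units.ext fromBlocks_one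
  map_mul' p q := Units.ext (by simp [fromBlocks_multiply])

theorem bd_val (a b : GL ι F) : (bd (a, b)).1 = fromBlocks a.1 0 0 b.1 := rfl

theorem bd_injective : Function.Injective (bd (F := F) (ι := ι)) := by
  rintro ⟨a, b⟩ ⟨a', b'⟩ h
  obtain ⟨h1, -, -, h4⟩ := fromBlocks_inj.1 (congrArg Units.val h)
  exact Prod.ext (Units.ext h1) (Units.ext h4)

/-- The exchange of the two blocks. -/
def swapGL : GL (ι ⊕ ι) F :=
  ⟨fromBlocks 0 1 1 0, fromBlocks 0 1 1 0, by simp [fromBlocks_multiply],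
    by simp [fromBlocks_multiply]⟩

theorem swap_sq : (swapGL : GL (ι ⊕ ι) F) * swapGL = 1 :=
  Units.ext (by simp [swapGL, fromBlocks_multiply])

theorem swap_bd (a b : GL ι F) : swapGL * bd (a, b) = bd (b, a) * swapGL :=
  Units.ext (by simp [swapGL, bd_val, fromBlocks_multiply])

theorem bd_ne_bd_swap [Nonempty ι] (a b a' b' : GL ι F) : bd (a, b) ≠ bd (a', b') * swapGL := by
  intro h
  have h1 := congrArg Units.val h
  rw [Units.val_mul, bd_val, bd_val] at h1
  simp only [swapGL, fromBlocks_multiply, mul_zero, add_zero, zero_mul, mul_one, zero_add] at h1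
  exact a.ne_zero (fromBlocks_inj.1 h1).1

theorem det_bd (a b : GL ι F) :
    GeneralLinearGroup.det (bd (a, b)) =
      GeneralLinearGroup.det a * GeneralLinearGroup.det b := by
  refine Units.ext ?_
  show (bd (a, b)).1.det = a.1.det * b.1.det
  rw [bd_val, det_fromBlocks_zero₂₁]

theorem det_swap :
    GeneralLinearGroup.det (swapGL : GL (ι ⊕ ι) F) = GeneralLinearGroup.det (-1 : GL ι F) := by
  refine Units.ext ?_
  show (fromBlocks 0 1 1 0 : Matrix (ι ⊕ ι) (ι ⊕ ι) F).det = (-1 : Matrix ι ι F).det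
  have e : (fromBlocks 0 1 1 0 : Matrix (ι ⊕ ι) (ι ⊕ ι) F) = fromBlocks 1 0 0 (-1) *
      (fromBlocks 1 1 0 1 * fromBlocks 1 0 (-1) 1 * fromBlocks 1 1 0 1) := by
    simp [fromBlocks_multiply]
  rw [e, det_mul, det_mul, det_mul, det_fromBlocks_zero₂₁, det_fromBlocks_zero₂₁,
    det_fromBlocks_zero₁₂, det_one]
  simp

theorem asym_off {a b : GL ι F} : ¬ Asym (bd (a, b) * swapGL) := by
  rw [Asym, not_or, not_not, not_not, Units.val_mul, bd_val]
  simp only [swapGL, fromBlocks_multiply, mul_zero, add_zero, zero_mul, mul_one, zero_add]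
  refine ⟨by simp [Matrix.trace, Fintype.sum_sum_type], ?_⟩
  have key : ∀ A B : Matrix ι ι F,
      fx (fromBlocks 0 A B 0) = fx (fromBlocks 0 (-A) (-B) 0) := by
    intro A B
    have hv : ∀ (A B : Matrix ι ι F) (v : ι ⊕ ι → F), fromBlocks 0 A B 0 *ᵥ v = v →
        fromBlocks 0 (-A) (-B) 0 *ᵥ Sum.elim (v ∘ Sum.inl) (-(v ∘ Sum.inr)) =
          Sum.elim (v ∘ Sum.inl) (-(v ∘ Sum.inr)) := by
      intro A B v hv
      rw [fromBlocks_mulVec] at hv ⊢
      funext i
      rcases i with i | i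
      · have := congrFun hv (Sum.inl i)
        simpa [neg_mulVec, mulVec_neg] using this
      · have := congrFun hv (Sum.inr i)
        simpa [neg_mulVec] using this
    refine Nat.card_congr
      { toFun := fun v => ⟨_, hv A B v.1 v.2⟩
        invFun := fun v => ⟨Sum.elim (v.1 ∘ Sum.inl) (-(v.1 ∘ Sum.inr)), by
          simpa using hv (-A) (-B) v.1 v.2⟩
        left_inv := fun v => Subtype.ext (funext fun i => by rcases i with i | i <;> simp)
        right_inv := fun v => Subtype.ext (funext fun i => by rcases i with i | i <;> simp) }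
  rw [fromBlocks_neg, neg_zero]
  exact key _ _

theorem asym_of_ne_neg_one [Finite F] (h2 : (2 : F) ≠ 0) {c : GL ι F} (hc : c ≠ -1) :
    Asym (bd (c, 1)) := by
  refine Or.inr fun h => hc (Units.ext ?_)
  rw [bd_val, fromBlocks_neg, neg_zero, Units.val_one, fx_fromBlocks, fx_fromBlocks, fx_one,
    fx_neg_one h2, mul_one] at h
  have h1 : Nat.card F ^ Fintype.card ι ≤ fx (-c.1) := by
    rw [← h]
    exact Nat.le_mul_of_pos_left _ (fx_pos c.1)
  have := eq_one_of_fx h1
  rw [Units.val_neg, Units.val_one, ← this, neg_neg]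

theorem Asym.swap {a b : GL ι F} (h : Asym (bd (a, b))) : Asym (bd (b, a)) := by
  have := h.conj swapGL
  rwa [swap_bd, mul_inv_cancel_right] at this

end CfsgLib.PronormalPSL
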