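/-
Pronormality of subgroups of odd index in `PSL(n, q)`, `q` even.
-/
import Cfsg.Agent.Lib.PronormalPSL.Abstract
import Cfsg.Agent.Lib.PronormalPSL.Overgroups

set_option autoImplicit false

namespace CfsgLib.PronormalPSL

open Matrix CfsgLib.Fusion.UniTri

variable {F : Type*} [Field F] [Fintype F] {n : ℕ}

/-- The group `SL(n, q)`. -/
local notation "SLn" => Matrix.SpecialLinearGroup (Fin n) F

theorem isPronormal_even [CharP F 2] (hn : 0 < n)
    (H : Subgroup (ProjectiveSpecialLinearGroup (Fin n) F)) (hH : Odd H.index) :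
    Cfsg.IsPronormal H := by
  haveI : Fact (Nat.Prime 2) := ⟨Nat.prime_two⟩
  haveI : NeZero n := ⟨hn.ne'⟩
  -- in characteristic two an element of 2-power order with power one is trivial
  have field2 : ∀ (c : F) (k : ℕ), c ^ 2 ^ k = 1 → c = 1 := fun c k h => by
    have h1 : (c - 1) ^ 2 ^ k = 0 := by rw [sub_pow_char_pow, h, one_pow, sub_self]
    exact sub_eq_zero.1 (pow_eq_zero_iff (by positivity) |>.1 h1)
  set U := upper F n with hUdef
  have hUp : IsPGroup 2 U := fun u => by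
    refine ⟨n, Subtype.ext (Subtype.ext ?_)⟩
    push_cast
    exact (mem_upper.1 u.2).pow_char
  obtain ⟨P, hP⟩ := hUp.exists_le_sylow
  have hnorm : ∀ g : SLn, (∀ u ∈ U, g⁻¹ * u * g ∈ U) → ∀ x y : Fin n, y < x → g.1 x y = 0 :=
    fun g hg => upper_triangular_of_conj fun v hv =>
      ⟨(g⁻¹ * v * g).1 |> fun _ => g⁻¹ * v * g, mem_upper.1 (hg v (mem_upper.2 hv)), by group⟩
  have hPU : (P : Subgroup SLn) = U := by
    by_contra hne
    have hlt : U.subgroupOf P < ⊤ := lt_top_iff_ne_top.2 fun h =>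
      hne (le_antisymm (Subgroup.subgroupOf_eq_top.1 h) hP)
    haveI := P.isPGroup'.isNilpotent
    have hnc : NormalizerCondition (P : Subgroup SLn) :=
      normalizerCondition_of_isNilpotent
    obtain ⟨⟨g, hgP⟩, hgN, hgU⟩ := SetLike.exists_of_lt (hnc _ hlt)
    refine hgU (mem_upper.2 ?_)
    have hgt := hnorm g fun u hu => by
      have h := (Subgroup.mem_normalizer_iff.1 (inv_mem hgN) ⟨u, hP hu⟩).1 hu
      simpa [Subgroup.mem_subgroupOf] using h
    refine ⟨hgt, fun x => ?_⟩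
    obtain ⟨k, hk⟩ := P.isPGroup' ⟨g, hgP⟩
    refine field2 _ k ?_
    have hk' : g ^ 2 ^ k = 1 := congrArg Subtype.val hk
    have hpow : ∀ j : ℕ, (∀ a b : Fin n, b < a → (g ^ j).1 a b = 0) ∧
        (g ^ j).1 x x = g.1 x x ^ j := by
      intro j
      induction j with
      | zero => exact ⟨fun a b h => by simp [one_apply_ne h.ne'], by simp⟩
      | succ j ih =>
        rw [pow_succ, val_mul]
        exact ⟨fun a b h => mul_apply_lower ih.1 hgt h, by rw [mul_apply_diag ih.1 hgt, ih.2, pow_succ]⟩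
    show g.1 x x ^ 2 ^ k = 1
    rw [← (hpow (2 ^ k)).2, hk', val_one, one_apply_eq]
  set π : SLn →* ProjectiveSpecialLinearGroup (Fin n) F :=
    QuotientGroup.mk' (Subgroup.center SLn) with hπdef
  have hπs : Function.Surjective π := QuotientGroup.mk'_surjective _
  set S₀ : Sylow 2 (ProjectiveSpecialLinearGroup (Fin n) F) := P.mapSurjective hπs with hS₀
  obtain ⟨S, hS⟩ := exists_sylow_le hH
  refine CfsgLib.Known.isPronormal_of_normalizer_sylow_le S H hS fun x hx => ?_
  obtain ⟨c, hc⟩ := MulAction.exists_smul_eq (ProjectiveSpecialLinearGroup (Fin n) F) S₀ S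
  obtain ⟨c', rfl⟩ := hπs c
  obtain ⟨g, hg⟩ := hπs ((π c')⁻¹ * x * π c')
  set H₁ := (H.map (MulAut.conj (π c')⁻¹).toMonoidHom).comap π with hH₁
  have memH₁ : ∀ z : SLn, z ∈ H₁ ↔ π c' * π z * (π c')⁻¹ ∈ H := fun z => by
    rw [hH₁, Subgroup.mem_comap, Subgroup.mem_map_equiv, map_inv]
    rfl
  have hU0 : ∀ u ∈ U, π u ∈ (S₀ : Subgroup (ProjectiveSpecialLinearGroup (Fin n) F)) :=
    fun u hu => by
      rw [hS₀, Sylow.coe_mapSurjective]
      exact Subgroup.mem_map_of_mem π (hPU.ge hu)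
  have hUH : U ≤ H₁ := fun u hu => (memH₁ u).2 (hS (by
    rw [← hc, Sylow.coe_subgroup_smul]
    exact Subgroup.smul_mem_pointwise_smul _ (MulAut.conj (π c')) _ (hU0 u hu)))
  have hgN : π g ∈ Subgroup.normalizer
      ((S₀ : Subgroup (ProjectiveSpecialLinearGroup (Fin n) F)) : Set _) := by
    rw [hg]
    refine Sylow.smul_eq_iff_mem_normalizer.1 ?_
    rw [mul_smul, mul_smul, hc, Sylow.smul_eq_iff_mem_normalizer.2 hx, ← hc, inv_smul_smul]
  have hgt : ∀ a b : Fin n, b < a → g.1 a b = 0 := by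
    refine hnorm g fun u hu => ?_
    have h1 : π (g⁻¹ * u * g) ∈ (S₀ : Subgroup (ProjectiveSpecialLinearGroup (Fin n) F)) := by
      rw [map_mul, map_mul, map_inv]
      have h := (Subgroup.mem_normalizer_iff.1 (inv_mem hgN) (π u)).1
        (hU0 u hu)
      rwa [inv_inv] at h
    rw [hS₀, Sylow.coe_mapSurjective] at h1
    obtain ⟨p, hp, e⟩ := h1
    obtain ⟨z, hz, e'⟩ := (QuotientGroup.mk'_eq_mk' _).1 e
    obtain ⟨a, ha⟩ := hUp ⟨u, hu⟩
    obtain ⟨b, hb⟩ := P.isPGroup' ⟨p, hp⟩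
    have hu2 : (g⁻¹ * u * g) ^ 2 ^ (a + b) = 1 := by
      rw [show g⁻¹ * u * g = g⁻¹ * u * (g⁻¹)⁻¹ by rw [inv_inv], conj_pow, pow_add, pow_mul,
        show u ^ 2 ^ a = 1 from congrArg Subtype.val ha, one_pow]
      group
    have hp2 : p ^ 2 ^ (a + b) = 1 := by
      rw [pow_add, mul_comm, pow_mul, show p ^ 2 ^ b = 1 from congrArg Subtype.val hb, one_pow]
    have hzp : Commute p z := Subgroup.mem_center_iff.1 hz p
    rw [← e', hzp.mul_pow, hp2, one_mul] at hu2
    obtain ⟨r, -, hr⟩ := Matrix.SpecialLinearGroup.mem_center_iff.1 hz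
    have hz1 : z = 1 := by
      refine Subtype.ext ?_
      have h2 : z.1 ^ 2 ^ (a + b) = 1 := by
        have h3 := congrArg (fun w : SLn => SpecialLinearGroup.toGL w) hu2
        simp only [map_pow, map_one] at h3
        exact congrArg Units.val h3
      rw [← hr, ← map_pow, ← map_one (Matrix.scalar (Fin n))] at h2
      rw [← hr, field2 r _ (Matrix.scalar_inj.1 h2), map_one]
      rfl
    rw [← e', hz1, mul_one, ← hPU]
    exact hp
  -- the preimage is normalised by `g`
  have hstab := le_stable (H₁.map SpecialLinearGroup.toGL) fun i j h c =>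
    Subgroup.mem_map_of_mem _ (hUH (el_mem_upper h c))
  obtain ⟨u, hu, v, hv⟩ := exists_uni_diag (b := SpecialLinearGroup.toGL g) fun a b h => hgt a b h
  have huH := hUH (mem_upper.2 hu)
  have hconj : ∀ z ∈ H₁, g * z * g⁻¹ ∈ H₁ := by
    intro z hz
    obtain ⟨w, hw, e⟩ := (hstab (Subgroup.mem_map_of_mem _ hz)).2 v
    have e2 : g * z * g⁻¹ = u * w * u⁻¹ := by
      refine SpecialLinearGroup.toGL_injective ?_
      simp only [map_mul, map_inv, hv, e]
      group
    rw [e2]
    exact H₁.mul_mem (H₁.mul_mem huH hw) (H₁.inv_mem huH)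
  have hfin : ∀ h ∈ H, x * h * x⁻¹ ∈ H := by
    intro h hh
    obtain ⟨z, hz⟩ := hπs ((π c')⁻¹ * h * π c')
    have h1 := (memH₁ _).1 (hconj z ((memH₁ z).2 (by rw [hz]; simpa [mul_assoc] using hh)))
    rw [map_mul, map_mul, map_inv, hg, hz] at h1
    simpa [mul_assoc] using h1
  rw [Subgroup.mem_normalizer_iff]
  intro h
  refine ⟨hfin h, fun hh => ?_⟩
  let f : H → H := fun a => ⟨x * a * x⁻¹, hfin a a.2⟩
  have hf : Function.Injective f := fun a b e =>
    Subtype.ext (mul_left_cancel (mul_right_cancel (congrArg Subtype.val e)))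
  obtain ⟨a, ha⟩ := Finite.surjective_of_injective hf ⟨_, hh⟩
  have : (a : ProjectiveSpecialLinearGroup (Fin n) F) = h :=
    mul_left_cancel (mul_right_cancel (congrArg Subtype.val ha))
  exact this ▸ a.2

end CfsgLib.PronormalPSL
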