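/-
Odd-order elements normalising a doubled 2-group are scalar.
-/
import Cfsg.Agent.Lib.PronormalPSL.Block

set_option autoImplicit false

namespace CfsgLib.PronormalPSL

open Matrix

variable {F : Type*} [Field F] [Finite F] {ι : Type*} [Fintype ι] [DecidableEq ι] [Nonempty ι]

/-- Odd-order normalising elements are scalar. -/
def Stat (K : Subgroup (GL ι F)) : Prop :=
  ∀ g : GL ι F, Odd (orderOf g) → (∀ k ∈ K, g * k * g⁻¹ ∈ K) → ∃ r : Fˣ, g = scal F ι r

/-- Central elements of order two are `±1`. -/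
def Cen (K : Subgroup (GL ι F)) : Prop :=
  ∀ k ∈ K, (∀ l ∈ K, k * l = l * k) → k * k = 1 → k = 1 ∨ k = -1

/-- The doubled group. -/
def double (K : Subgroup (GL ι F)) : Subgroup (GL (ι ⊕ ι) F) where
  carrier := {x | ∃ a ∈ K, ∃ b ∈ K, x = bd (a, b) ∨ x = bd (a, b) * swapGL}
  one_mem' := ⟨1, K.one_mem, 1, K.one_mem, Or.inl (map_one bd).symm⟩
  mul_mem' := by
    rintro x y ⟨a, ha, b, hb, hx⟩ ⟨c, hc, d, hd, hy⟩
    rcases hx with rfl | rfl <;> rcases hy with rfl | rfl
    · exact ⟨_, K.mul_mem ha hc, _, K.mul_mem hb hd, Or.inl (map_mul bd (a, b) (c, d)).symm⟩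
    · exact ⟨_, K.mul_mem ha hc, _, K.mul_mem hb hd, Or.inr (by
        rw [← mul_assoc, ← map_mul]; rfl)⟩
    · exact ⟨_, K.mul_mem ha hd, _, K.mul_mem hb hc, Or.inr (by
        rw [mul_assoc, swap_bd, ← mul_assoc, ← map_mul]; rfl)⟩
    · exact ⟨_, K.mul_mem ha hd, _, K.mul_mem hb hc, Or.inl (by
        rw [mul_assoc, ← mul_assoc swapGL, swap_bd, mul_assoc _ swapGL, swap_sq, mul_one,
          ← map_mul]; rfl)⟩
  inv_mem' := by
    rintro x ⟨a, ha, b, hb, hx⟩
    rcases hx with rfl | rfl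
    · exact ⟨_, K.inv_mem ha, _, K.inv_mem hb, Or.inl (map_inv bd (a, b)).symm⟩
    · refine ⟨_, K.inv_mem hb, _, K.inv_mem ha, Or.inr ?_⟩
      rw [_root_.mul_inv_rev, inv_eq_of_mul_eq_one_right swap_sq, ← map_inv, Prod.inv_mk, swap_bd]

theorem bd_mem_double {K : Subgroup (GL ι F)} {a b : GL ι F} (ha : a ∈ K) (hb : b ∈ K) :
    bd (a, b) ∈ double K := ⟨a, ha, b, hb, Or.inl rfl⟩

theorem swap_mem_double (K : Subgroup (GL ι F)) : swapGL ∈ double K :=
  ⟨1, K.one_mem, 1, K.one_mem, Or.inr (by rw [show ((1, 1) : GL ι F × GL ι F) = 1 from rfl,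
    map_one, one_mul])⟩

theorem mem_of_bd_mem_double {K : Subgroup (GL ι F)} {a b : GL ι F}
    (h : bd (a, b) ∈ double K) : a ∈ K ∧ b ∈ K := by
  obtain ⟨c, hc, d, hd, e | e⟩ := h
  · obtain ⟨rfl, rfl⟩ := Prod.mk.inj (bd_injective e)
    exact ⟨hc, hd⟩
  · exact absurd e (bd_ne_bd_swap a b c d)

theorem card_double (K : Subgroup (GL ι F)) :
    Nat.card (double K) = 2 * Nat.card K ^ 2 := by
  let f : (K × K) ⊕ (K × K) → double K :=
    Sum.elim (fun p => ⟨bd (p.1.1, p.2.1), bd_mem_double p.1.2 p.2.2⟩)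
      (fun p => ⟨bd (p.1.1, p.2.1) * swapGL,
        (double K).mul_mem (bd_mem_double p.1.2 p.2.2) (swap_mem_double K)⟩)
  have hf : Function.Bijective f := by
    refine ⟨?_, ?_⟩
    · rintro (⟨a, b⟩ | ⟨a, b⟩) (⟨c, d⟩ | ⟨c, d⟩) h <;> have h' := congrArg Subtype.val h
      · obtain ⟨e1, e2⟩ := Prod.mk.inj (bd_injective h')
        exact congrArg Sum.inl (Prod.ext (Subtype.ext e1) (Subtype.ext e2))
      · exact absurd h' (bd_ne_bd_swap _ _ _ _)
      · exact absurd h'.symm (bd_ne_bd_swap _ _ _ _)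
      · obtain ⟨e1, e2⟩ := Prod.mk.inj (bd_injective (mul_right_cancel h'))
        exact congrArg Sum.inr (Prod.ext (Subtype.ext e1) (Subtype.ext e2))
    · rintro ⟨x, a, ha, b, hb, rfl | rfl⟩
      · exact ⟨Sum.inl (⟨a, ha⟩, ⟨b, hb⟩), rfl⟩
      · exact ⟨Sum.inr (⟨a, ha⟩, ⟨b, hb⟩), rfl⟩
  rw [← Nat.card_eq_of_bijective f hf, Nat.card_sum, Nat.card_prod]
  ring

theorem exists_two_pow {K : Subgroup (GL ι F)} (hK : IsPGroup 2 K) {x : GL ι F} (hx : x ∈ K) :
    ∃ e : ℕ, x ^ 2 ^ e = 1 := by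
  obtain ⟨e, he⟩ := hK ⟨x, hx⟩
  exact ⟨e, congrArg Subtype.val he⟩

theorem isPGroup_double {K : Subgroup (GL ι F)} (hK : IsPGroup 2 K) : IsPGroup 2 (double K) := by
  haveI : Fact (Nat.Prime 2) := ⟨Nat.prime_two⟩
  obtain ⟨e, he⟩ := IsPGroup.iff_card.1 hK
  exact IsPGroup.of_card (n := 2 * e + 1) (by rw [card_double, he]; ring)

theorem stat_of (h2 : (2 : F) ≠ 0) {K : Subgroup (GL ι F)} (hKp : IsPGroup 2 K)
    (K' : Subgroup (GL (ι ⊕ ι) F)) (hle : K' ≤ double K) (hst : Stat K) (hcen : Cen K)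
    (hneg : (-1 : GL ι F) ∈ K)
    (hp1 : ∀ a ∈ K, ∃ b, bd (a, b) ∈ K') (hp2 : ∀ b ∈ K, ∃ a, bd (a, b) ∈ K')
    (he : bd ((-1 : GL ι F), 1) ∈ K') (hs : swapGL ∈ K')
    (hgen : ∀ a b, bd (a, b) ∈ K' → bd (a, b) ∈ Subgroup.closure {x | x ∈ K' ∧ Asym x}) :
    Stat K' := by
  intro g hgo hg
  set A := {x : GL (ι ⊕ ι) F | x ∈ K' ∧ Asym x} with hA
  have hbase : Subgroup.closure A ≤ (bd : GL ι F × GL ι F →* GL (ι ⊕ ι) F).range := by
    rw [Subgroup.closure_le]
    rintro x ⟨hx, hxa⟩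
    obtain ⟨a, -, b, -, rfl | rfl⟩ := hle hx
    · exact ⟨_, rfl⟩
    · exact absurd hxa asym_off
  have hAK : Subgroup.closure A ≤ K' := (Subgroup.closure_le _).2 fun x hx => hx.1
  have hL : ∀ z ∈ Subgroup.closure A, g * z * g⁻¹ ∈ Subgroup.closure A := by
    intro z hz
    have h1 : Subgroup.closure A ≤
        (Subgroup.closure A).comap (MulAut.conj g).toMonoidHom := by
      rw [Subgroup.closure_le]
      exact fun x hx => Subgroup.subset_closure ⟨hg x hx.1, hx.2.conj g⟩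
    exact h1 hz
  have hsurj : ∀ z ∈ Subgroup.closure A, ∃ w ∈ Subgroup.closure A, g * w * g⁻¹ = z := by
    intro z hz
    obtain ⟨w, hw⟩ := Finite.surjective_of_injective
      (f := fun w : Subgroup.closure A =>
        (⟨g * w * g⁻¹, hL w w.2⟩ : Subgroup.closure A))
      (fun u v e => Subtype.ext (mul_left_cancel (mul_right_cancel (congrArg Subtype.val e))))
      ⟨z, hz⟩
    exact ⟨w, w.2, congrArg Subtype.val hw⟩
  have hmemK : ∀ {a b}, bd (a, b) ∈ Subgroup.closure A → a ∈ K ∧ b ∈ K := fun h =>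
    mem_of_bd_mem_double (hle (hAK h))
  -- the image of the block involution
  obtain ⟨⟨a', b'⟩, he'⟩ := hbase (hL _ (hgen _ _ he))
  have hab' := hmemK (he' ▸ hL _ (hgen _ _ he))
  have hcomm : ∀ z ∈ Subgroup.closure A, bd (a', b') * z = z * bd (a', b') := by
    intro z hz
    obtain ⟨w, hw, rfl⟩ := hsurj z hz
    obtain ⟨⟨c, d⟩, rfl⟩ := hbase hw
    have hcj : ∀ x y : GL (ι ⊕ ι) F, g * x * g⁻¹ * (g * y * g⁻¹) = g * (x * y) * g⁻¹ :=
      fun x y => by group
    rw [he', hcj, hcj, ← map_mul, ← map_mul]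
    congr 3
    exact Prod.ext (by simp) (by simp)
  have hsq : bd (a', b') * bd (a', b') = 1 := by
    rw [he', conj_mul, ← map_mul]
    simp [← Prod.one_eq_mk]
  rw [← map_mul, ← map_one bd] at hsq
  have hsq' := Prod.ext_iff.1 (bd_injective hsq)
  have ha' : a' = 1 ∨ a' = -1 := by
    refine hcen a' hab'.1 (fun l hl => ?_) hsq'.1
    obtain ⟨b, hb⟩ := hp1 l hl
    have h := hcomm _ (hgen _ _ hb)
    rw [← map_mul, ← map_mul] at h
    exact (Prod.ext_iff.1 (bd_injective h)).1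
  have hb' : b' = 1 ∨ b' = -1 := by
    refine hcen b' hab'.2 (fun l hl => ?_) hsq'.2
    obtain ⟨a, ha⟩ := hp2 l hl
    have h := hcomm _ (hgen _ _ ha)
    rw [← map_mul, ← map_mul] at h
    exact (Prod.ext_iff.1 (bd_injective h)).2
  have hne : (-1 : GL ι F) ≠ 1 := fun h => by
    have h' : ((-1 : GL ι F) : Matrix ι ι F) = (1 : GL ι F) := congrArg Units.val h
    have := congrFun (congrFun h' (Classical.arbitrary ι)) (Classical.arbitrary ι)
    rw [Units.val_neg, Units.val_one, Matrix.neg_apply, one_apply_eq] at this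
    exact h2 (by linear_combination -this)
  set E : GL (ι ⊕ ι) F := bd (-1, 1) with hE
  have hneg2 : bd ((-1 : GL ι F), (-1 : GL ι F)) = -1 :=
    Units.ext (by rw [bd_val, Units.val_neg, Units.val_one, Units.val_neg, Units.val_one,
      ← fromBlocks_one, fromBlocks_neg, neg_zero])
  have hEc : g * E * g⁻¹ = E := by
    have hnot : ∀ z : GL (ι ⊕ ι) F, (∀ x, z * x = x * z) → g * E * g⁻¹ = z → E = z :=
      fun z hz h => by
        rw [← h]
        rw [show g * E * g⁻¹ = z from h]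
        calc E = g⁻¹ * (g * E * g⁻¹) * g := by group
          _ = z := by rw [h, mul_assoc, hz g, inv_mul_cancel_left]
    have hE1 : E ≠ 1 := fun h => hne (by
      rw [hE, ← map_one bd] at h
      exact (Prod.ext_iff.1 (bd_injective h)).1)
    have hE2 : E ≠ bd ((-1 : GL ι F), (-1 : GL ι F)) := fun h => hne
      ((Prod.ext_iff.1 (bd_injective h)).2).symm
    rw [← he']
    rcases ha' with rfl | rfl <;> rcases hb' with rfl | rfl
    · exact absurd (hnot 1 (fun x => by simp)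
        (he'.symm.trans (map_one bd))) hE1
    · exfalso
      have hflip : g * E * g⁻¹ = bd ((-1 : GL ι F), (-1 : GL ι F)) * E := by
        rw [← he', hE, ← map_mul]; simp
      have hg2 : Commute (g * g) E := by
        have h2' : g * (g * E * g⁻¹) * g⁻¹ = E := by
          conv_lhs => rw [hflip, hneg2]
          rw [show g * (-1 * E) * g⁻¹ = -1 * (g * E * g⁻¹) by simp [mul_assoc], hflip, hneg2]
          simp
        show g * g * E = E * (g * g)
        calc g * g * E = g * (g * E * g⁻¹) * g⁻¹ * (g * g) := by group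
          _ = E * (g * g) := by rw [h2']
      obtain ⟨m, hm⟩ := exists_pow_eq_self_of_coprime (x := g) (n := 2)
        (Nat.coprime_two_left.2 hgo)
      have hgE : Commute g E := by
        rw [← hm, pow_two]; exact hg2.pow_left m
      have hEE : E = bd ((-1 : GL ι F), (-1 : GL ι F)) * E := by
        rw [← hflip, hgE.eq, mul_inv_cancel_right]
      refine hne ?_
      have h := mul_right_cancel ((one_mul E).trans hEE)
      have h' : bd ((1 : GL ι F), (1 : GL ι F)) = bd ((-1 : GL ι F), (-1 : GL ι F)) := by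
        rw [← h]; exact map_one bd
      exact (Prod.ext_iff.1 (bd_injective h')).1.symm
    · rfl
    · exact absurd (hnot _ (fun x => by rw [hneg2]; simp) he'.symm) hE2
  -- block diagonal
  have hdiag : ∀ h : GL (ι ⊕ ι) F, h * E = E * h →
      (toBlocks₁₂ h.1 = 0 ∧ toBlocks₂₁ h.1 = 0) := by
    intro h hh
    have h1 := congrArg Units.val hh
    rw [Units.val_mul, Units.val_mul, hE, bd_val, ← fromBlocks_toBlocks h.1, fromBlocks_multiply,
      fromBlocks_multiply, fromBlocks_inj] at h1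
    simp only [Units.val_neg, Units.val_one, mul_zero, mul_one, zero_add, add_zero, zero_mul,
      one_mul, neg_mul, mul_neg] at h1
    obtain ⟨-, hB, hC, -⟩ := h1
    constructor <;> ext i j
    · have := congrFun (congrFun hB i) j
      rw [Matrix.neg_apply] at this
      exact (mul_eq_zero.1 (show (2 : F) * toBlocks₁₂ h.1 i j = 0 by
        linear_combination this)).resolve_left h2
    · have := congrFun (congrFun hC i) j
      rw [Matrix.neg_apply] at this
      exact (mul_eq_zero.1 (show (2 : F) * toBlocks₂₁ h.1 i j = 0 by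
        linear_combination -this)).resolve_left h2
  have hgE' : g * E = E * g := by
    rw [← mul_inv_eq_iff_eq_mul]; exact hEc
  have hgiE : g⁻¹ * E = E * g⁻¹ := ((Commute.inv_left (hgE' : Commute g E))).eq
  obtain ⟨g1, g2, rfl⟩ : ∃ g1 g2, g = bd (g1, g2) := by
    have hd := hdiag g hgE'
    have hd' := hdiag g⁻¹ hgiE
    have e1 := congrArg Units.val (mul_inv_cancel g)
    have e2 := congrArg Units.val (inv_mul_cancel g)
    rw [Units.val_mul, Units.val_one, ← fromBlocks_toBlocks g.1, ← fromBlocks_toBlocks (g⁻¹).1,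
      hd.1, hd.2, hd'.1, hd'.2, fromBlocks_multiply, ← fromBlocks_one, fromBlocks_inj] at e1 e2
    simp only [mul_zero, add_zero, zero_add, zero_mul] at e1 e2
    refine ⟨⟨_, _, e1.1, e2.1⟩, ⟨_, _, e1.2.2.2, e2.2.2.2⟩, Units.ext ?_⟩
    rw [bd_val]
    conv_lhs => rw [← fromBlocks_toBlocks g.1, hd.1, hd.2]
  have hord : g1 ^ orderOf (bd (g1, g2)) = 1 ∧ g2 ^ orderOf (bd (g1, g2)) = 1 := by
    have h := pow_orderOf_eq_one (bd (g1, g2))
    rw [← map_pow, ← map_one bd] at h
    exact Prod.ext_iff.1 (bd_injective h)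
  obtain ⟨r, rfl⟩ := hst g1 (hgo.of_dvd_nat (orderOf_dvd_of_pow_eq_one hord.1)) fun l hl => by
    obtain ⟨b, hb⟩ := hp1 l hl
    have h := hg _ hb
    rw [← map_inv, ← map_mul, ← map_mul] at h
    exact (mem_of_bd_mem_double (hle h)).1
  obtain ⟨s, rfl⟩ := hst g2 (hgo.of_dvd_nat (orderOf_dvd_of_pow_eq_one hord.2)) fun l hl => by
    obtain ⟨a, ha⟩ := hp2 l hl
    have h := hg _ ha
    rw [← map_inv, ← map_mul, ← map_mul] at h
    exact (mem_of_bd_mem_double (hle h)).2
  have hrs : scal F ι (r * s⁻¹) ∈ K := by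
    have h := K'.mul_mem (hg _ hs) hs
    rw [← map_inv, mul_assoc (bd (scal F ι r, scal F ι s)), swap_bd, ← mul_assoc, ← map_mul,
      mul_assoc, swap_sq, mul_one, Prod.inv_mk, Prod.mk_mul_mk, ← map_inv, ← map_mul] at h
    simpa [map_mul, map_inv] using (mem_of_bd_mem_double (hle h)).1
  obtain ⟨e, he2⟩ := exists_two_pow hKp hrs
  have hsc : Function.Injective (scal F ι) := fun x y h => by
    have h' : ((scal F ι x : GL ι F) : Matrix ι ι F) = (scal F ι y : GL ι F) := congrArg Units.val h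
    have := congrFun (congrFun h' (Classical.arbitrary ι)) (Classical.arbitrary ι)
    rw [scal_val, scal_val, Matrix.smul_apply, Matrix.smul_apply, one_apply_eq, smul_eq_mul,
      smul_eq_mul, mul_one, mul_one] at this
    exact Units.ext this
  rw [← map_pow, ← map_one (scal F ι)] at he2
  have hsame : r = s := by
    rw [← mul_inv_eq_one, ← orderOf_eq_one_iff]
    refine Nat.eq_one_of_dvd_coprimes ((Nat.coprime_two_left.2 hgo).pow_left e)
      (orderOf_dvd_of_pow_eq_one (hsc he2)) (orderOf_dvd_of_pow_eq_one (hsc ?_))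
    rw [map_one, map_pow, map_mul, map_inv]
    have hc : Commute (scal F ι r) (scal F ι s)⁻¹ :=
      (Commute.all r s).map (scal F ι) |>.inv_right
    rw [hc.mul_pow, inv_pow, hord.1, hord.2, inv_one, one_mul]
  subst hsame
  refine ⟨r, Units.ext ?_⟩
  rw [bd_val, scal_val, scal_val, ← fromBlocks_one, fromBlocks_smul, smul_zero]

end CfsgLib.PronormalPSL
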