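/-
Sylow 2-subgroups of general linear groups of 2-power degree with their normalising data.
-/
import Cfsg.Agent.Lib.PronormalPSL.Step
import Cfsg.Agent.Lib.BlockArith.GLWreathSylow
import Cfsg.Agent.Lib.Classical.SL2OddSylow

set_option autoImplicit false

namespace CfsgLib.PronormalPSL

open Matrix

variable {F : Type*} [Field F] [Fintype F]

section

variable {ι : Type*} [Fintype ι] [DecidableEq ι] [Nonempty ι]

/-- What is carried along the doubling. -/
structure Core (K : Subgroup (GL ι F)) : Prop where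
  isPGroup : IsPGroup 2 K
  stat : Stat K
  cen : Cen K
  negOne : (-1 : GL ι F) ∈ K
  ev : GeneralLinearGroup.det (-1 : GL ι F) = 1
  c : ∃ c ∈ K, GeneralLinearGroup.det c = 1 ∧ c ≠ 1 ∧ c ≠ -1
  gen : ∃ d ∈ K, ∃ d' ∈ K, GeneralLinearGroup.det d * GeneralLinearGroup.det d' = 1 ∧
    (∀ k ∈ K, GeneralLinearGroup.det k ∈ Subgroup.zpowers (GeneralLinearGroup.det d)) ∧
    fx (-d.1) = 1 ∧ fx (-d'.1) = 1 ∧ Asym (bd (d, d'))

/-- A core of the order of a Sylow 2-subgroup of the general linear group. -/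
structure Data (K : Subgroup (GL ι F)) : Prop extends Core K where
  card : Nat.card K = 2 ^ (Nat.card (GL ι F)).factorization 2

omit [Fintype F] in
theorem neg_one_pair :
    bd ((-1 : GL ι F), (-1 : GL ι F)) = -1 :=
  Units.ext (by rw [bd_val, Units.val_neg, Units.val_one, Units.val_neg, Units.val_one,
    ← fromBlocks_one, fromBlocks_neg, neg_zero])

omit [Fintype F] in
theorem neg_one_ne_one (h2 : (2 : F) ≠ 0) : (-1 : GL ι F) ≠ 1 := fun h => by
  have h' : ((-1 : GL ι F) : Matrix ι ι F) = (1 : GL ι F) := congrArg Units.val h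
  have := congrFun (congrFun h' (Classical.arbitrary ι)) (Classical.arbitrary ι)
  rw [Units.val_neg, Units.val_one, Matrix.neg_apply, one_apply_eq] at this
  exact h2 (by linear_combination -this)

/-- Pairs with one trivial entry lie in the closure of the asymmetric elements. -/
theorem bd_one_mem_closure (h2 : (2 : F) ≠ 0) {K : Subgroup (GL ι F)}
    (K' : Subgroup (GL (ι ⊕ ι) F)) (P : GL ι F → Prop)
    (hP : ∀ a ∈ K, P a → bd (a, 1) ∈ K' ∧ bd (1, a) ∈ K')
    {c : GL ι F} (hc : c ∈ K) (hPc : P c) (hPc' : P (-c⁻¹)) (hneg : (-1 : GL ι F) ∈ K)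
    (hc1 : c ≠ 1) (hc2 : c ≠ -1) {a : GL ι F} (ha : a ∈ K) (hPa : P a) :
    bd (a, 1) ∈ Subgroup.closure {x | x ∈ K' ∧ Asym x} ∧
      bd (1, a) ∈ Subgroup.closure {x | x ∈ K' ∧ Asym x} := by
  have base : ∀ a ∈ K, P a → a ≠ -1 →
      bd (a, 1) ∈ Subgroup.closure {x | x ∈ K' ∧ Asym x} ∧
        bd (1, a) ∈ Subgroup.closure {x | x ∈ K' ∧ Asym x} := fun a ha hPa hne =>
    ⟨Subgroup.subset_closure ⟨(hP a ha hPa).1, asym_of_ne_neg_one h2 hne⟩,
      Subgroup.subset_closure ⟨(hP a ha hPa).2, (asym_of_ne_neg_one h2 hne).swap⟩⟩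
  by_cases hne : a = -1
  · subst hne
    have hc3 : -c⁻¹ ∈ K := by
      rw [← neg_one_mul]; exact K.mul_mem hneg (K.inv_mem hc)
    have h1 := base (-c⁻¹) hc3 hPc' (fun h => hc1 (inv_eq_one.1 (neg_injective h)))
    have h3 := base c hc hPc hc2
    constructor
    · have := Subgroup.mul_mem _ h1.1 h3.1
      rw [← map_mul] at this
      simpa using this
    · have := Subgroup.mul_mem _ h1.2 h3.2
      rw [← map_mul] at this
      simpa using this
  · exact base a ha hPa hne

theorem stat_double (h2 : (2 : F) ≠ 0) {K : Subgroup (GL ι F)} (hKp : IsPGroup 2 K)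
    (hst : Stat K) (hcen : Cen K) (hneg : (-1 : GL ι F) ∈ K)
    (hc : ∃ c ∈ K, c ≠ 1 ∧ c ≠ -1) : Stat (double K) := by
  obtain ⟨c, hc, hc1, hc2⟩ := hc
  refine stat_of h2 hKp (double K) le_rfl hst hcen hneg
    (fun a ha => ⟨1, bd_mem_double ha K.one_mem⟩) (fun b hb => ⟨1, bd_mem_double K.one_mem hb⟩)
    (bd_mem_double hneg K.one_mem) (swap_mem_double K) fun a b hab => ?_
  obtain ⟨ha, hb⟩ := mem_of_bd_mem_double hab
  have key := fun x (hx : x ∈ K) => bd_one_mem_closure h2 (double K) (fun _ => True)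
    (fun y hy _ => ⟨bd_mem_double hy K.one_mem, bd_mem_double K.one_mem hy⟩) hc trivial trivial
    hneg hc1 hc2 hx trivial
  have := Subgroup.mul_mem _ (key a ha).1 (key b hb).2
  rw [← map_mul] at this
  simpa using this

theorem cen_double (h2 : (2 : F) ≠ 0) {K : Subgroup (GL ι F)} (hcen : Cen K)
    (hneg : (-1 : GL ι F) ∈ K) : Cen (double K) := by
  intro k hk hcomm hkk
  obtain ⟨a, ha, b, -, rfl | rfl⟩ := hk
  · have h1 := hcomm _ (swap_mem_double K)
    rw [swap_bd] at h1
    obtain ⟨rfl, -⟩ := Prod.mk.inj (bd_injective (mul_right_cancel h1))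
    rw [← map_mul, ← map_one bd] at hkk
    have hcase := hcen a ha (fun l hl => by
      have h3 := hcomm _ (bd_mem_double hl K.one_mem)
      rw [← map_mul, ← map_mul] at h3
      exact (Prod.ext_iff.1 (bd_injective h3)).1) (Prod.ext_iff.1 (bd_injective hkk)).1
    rcases hcase with rfl | rfl
    · exact Or.inl (map_one bd)
    · exact Or.inr neg_one_pair
  · exfalso
    have h1 := hcomm _ (bd_mem_double hneg K.one_mem)
    rw [mul_assoc, swap_bd, ← mul_assoc, ← mul_assoc, ← map_mul, ← map_mul] at h1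
    have h3 := (Prod.ext_iff.1 (bd_injective (mul_right_cancel h1))).1
    simp only [Prod.fst_mul, mul_one, neg_mul, one_mul] at h3
    refine neg_one_ne_one (F := F) (ι := ι) h2 (mul_right_cancel (b := a) ?_)
    rw [neg_one_mul, one_mul]
    exact h3.symm

theorem fx_neg_bd_one (h2 : (2 : F) ≠ 0) {a : GL ι F} (h : fx (-a.1) = 1) :
    fx (-(bd (a, 1)).1) = 1 := by
  rw [bd_val, fromBlocks_neg, neg_zero, Units.val_one, fx_fromBlocks, h, fx_neg_one h2, mul_one]

theorem one_lt_fx_bd_one (a : GL ι F) : 1 < fx (bd (a, (1 : GL ι F))).1 := by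
  rw [bd_val, Units.val_one, fx_fromBlocks, fx_one]
  exact lt_of_lt_of_le (Nat.one_lt_pow Fintype.card_ne_zero Finite.one_lt_card)
    (Nat.le_mul_of_pos_left _ (fx_pos a.1))

theorem asym_pair_one (h2 : (2 : F) ≠ 0) {a b : GL ι F} (ha : fx (-a.1) = 1)
    (hb : fx (-b.1) = 1) : Asym (bd (bd (a, (1 : GL ι F)), bd (b, (1 : GL ι F)))) := by
  refine Or.inr ?_
  rw [bd_val (bd (a, (1 : GL ι F))), fromBlocks_neg, neg_zero, fx_fromBlocks, fx_fromBlocks,
    fx_neg_bd_one h2 ha, fx_neg_bd_one h2 hb, mul_one]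
  exact ne_of_gt (one_lt_mul'' (one_lt_fx_bd_one a) (one_lt_fx_bd_one b))

theorem Core.double' (h2 : (2 : F) ≠ 0) {K : Subgroup (GL ι F)} (h : Core K) :
    Core (double K) := by
  obtain ⟨c, hc, -, hc1, hc2⟩ := h.c
  obtain ⟨d, hd, d', hd', hdd, himg, hfd, hfd', -⟩ := h.gen
  refine
    { isPGroup := isPGroup_double h.isPGroup
      stat := stat_double h2 h.isPGroup h.stat h.cen h.negOne ⟨c, hc, hc1, hc2⟩
      cen := cen_double h2 h.cen h.negOne
      negOne := neg_one_pair (F := F) (ι := ι) ▸ bd_mem_double h.negOne h.negOne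
      ev := by rw [← neg_one_pair, det_bd, h.ev, one_mul]
      c := ⟨bd (-1, 1), bd_mem_double h.negOne K.one_mem, by rw [det_bd, h.ev, map_one, one_mul],
        fun e => ?_, fun e => ?_⟩
      gen := ⟨bd (d, 1), bd_mem_double hd K.one_mem, bd (d', 1), bd_mem_double hd' K.one_mem,
        by rw [det_bd, det_bd, map_one, mul_one, mul_one, hdd], ?_, fx_neg_bd_one h2 hfd,
        fx_neg_bd_one h2 hfd', asym_pair_one h2 hfd hfd'⟩ }
  · rw [← map_one bd] at e
    exact neg_one_ne_one h2 (Prod.ext_iff.1 (bd_injective e)).1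
  · rw [← neg_one_pair] at e
    exact neg_one_ne_one h2 (Prod.ext_iff.1 (bd_injective e)).2.symm
  · intro k hk
    rw [det_bd, map_one, mul_one]
    obtain ⟨a, ha, b, hb, rfl | rfl⟩ := hk
    · rw [det_bd]; exact Subgroup.mul_mem _ (himg a ha) (himg b hb)
    · rw [map_mul, det_bd, det_swap, h.ev, mul_one]
      exact Subgroup.mul_mem _ (himg a ha) (himg b hb)

theorem Data.double' (h2 : (2 : F) ≠ 0) {K : Subgroup (GL ι F)} (h : Data K)
    (hv : (Nat.card (GL (ι ⊕ ι) F)).factorization 2 =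
      2 * (Nat.card (GL ι F)).factorization 2 + 1) : Data (double K) :=
  ⟨h.toCore.double' h2, by rw [card_double, h.card, hv]; ring⟩

/-- The determinant one part of the doubled group. -/
theorem Core.stat_special (h2 : (2 : F) ≠ 0) {K : Subgroup (GL ι F)} (h : Core K) :
    Stat (double K ⊓ (GeneralLinearGroup.det : GL (ι ⊕ ι) F →* Fˣ).ker) := by
  obtain ⟨c, hc, hcd, hc1, hc2⟩ := h.c
  obtain ⟨d, hd, d', hd', hdd, himg, -, -, hasym⟩ := h.gen
  set K' := double K ⊓ (GeneralLinearGroup.det : GL (ι ⊕ ι) F →* Fˣ).ker with hK'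
  have mem : ∀ {a b : GL ι F}, a ∈ K → b ∈ K →
      GeneralLinearGroup.det a * GeneralLinearGroup.det b = 1 → bd (a, b) ∈ K' := fun ha hb e =>
    ⟨bd_mem_double ha hb, MonoidHom.mem_ker.2 (by rw [det_bd, e])⟩
  have hpart : ∀ i : ℤ, GeneralLinearGroup.det (d ^ i) * GeneralLinearGroup.det (d' ^ i) = 1 :=
    fun i => by rw [map_zpow, map_zpow, ← mul_zpow, hdd, _root_.one_zpow]
  refine stat_of h2 h.isPGroup K' inf_le_left h.stat h.cen h.negOne ?_ ?_
    (mem h.negOne K.one_mem (by rw [h.ev, map_one, one_mul]))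
    ⟨swap_mem_double K, MonoidHom.mem_ker.2 (by rw [det_swap, h.ev])⟩ ?_
  · intro a ha
    obtain ⟨i, hi⟩ := himg a ha
    refine ⟨d' ^ i, mem ha (K.zpow_mem hd' i) ?_⟩
    rw [show GeneralLinearGroup.det a = GeneralLinearGroup.det d ^ i from hi.symm, ← map_zpow]
    exact hpart i
  · intro b hb
    obtain ⟨i, hi⟩ := himg b hb
    refine ⟨d' ^ i, mem (K.zpow_mem hd' i) hb ?_⟩
    rw [show GeneralLinearGroup.det b = GeneralLinearGroup.det d ^ i from hi.symm, ← map_zpow,
      mul_comm]
    exact hpart i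
  · intro a b hab
    obtain ⟨ha, hb⟩ := mem_of_bd_mem_double hab.1
    have hdet : GeneralLinearGroup.det a * GeneralLinearGroup.det b = 1 := by
      rw [← det_bd]; exact MonoidHom.mem_ker.1 hab.2
    obtain ⟨i, hi⟩ := himg a ha
    have key := fun x (hx : x ∈ K) (hPx : GeneralLinearGroup.det x = 1) =>
      bd_one_mem_closure h2 K' (fun y => GeneralLinearGroup.det y = 1)
        (fun y hy hPy => ⟨mem hy K.one_mem (by rw [hPy, map_one, one_mul]),
          mem K.one_mem hy (by rw [hPy, map_one, one_mul])⟩) hc hcd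
        (by rw [← neg_one_mul, map_mul, map_inv, h.ev, hcd, inv_one, one_mul])
        h.negOne hc1 hc2 hx hPx
    have hai : GeneralLinearGroup.det (a * (d ^ i)⁻¹) = 1 := by
      rw [map_mul, map_inv, map_zpow]
      exact mul_inv_eq_one.2 hi.symm
    have hbi : GeneralLinearGroup.det (b * (d' ^ i)⁻¹) = 1 := by
      rw [map_mul, map_inv, mul_inv_eq_one, ← mul_right_inj (GeneralLinearGroup.det a), hdet]
      rw [show GeneralLinearGroup.det a = GeneralLinearGroup.det (d ^ i) by
        rw [map_zpow]; exact hi.symm]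
      exact (hpart i).symm
    have h1 := (key _ (K.mul_mem ha (K.inv_mem (K.zpow_mem hd i))) hai).1
    have h3 := (key _ (K.mul_mem hb (K.inv_mem (K.zpow_mem hd' i))) hbi).2
    have h4 : bd (d, d') ^ i ∈ Subgroup.closure {x | x ∈ K' ∧ Asym x} := by
      refine Subgroup.zpow_mem _ (Subgroup.subset_closure ?_) i
      exact ⟨mem hd hd' hdd, hasym⟩
    have := Subgroup.mul_mem _ (Subgroup.mul_mem _ h1 h3) h4
    rw [← map_zpow, ← map_mul, ← map_mul] at this
    simpa using this

end

theorem fx_eq_one_of_injective {ι : Type*} [Fintype ι] [DecidableEq ι] (M : Matrix ι ι F)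
    (h : ∀ v : ι → F, M *ᵥ v = v → v = 0) : fx M = 1 :=
  haveI : Subsingleton {v : ι → F // M *ᵥ v = v} :=
    ⟨fun u v => Subtype.ext ((h _ u.2).trans (h _ v.2).symm)⟩
  Nat.card_eq_one_iff_unique.2 ⟨inferInstance, ⟨⟨0, mulVec_zero _⟩⟩⟩

theorem core_base_one (h2 : (2 : F) ≠ 0) (W : Subgroup (GL (Fin 1) F)) (hWp : IsPGroup 2 W)
    (hneg : (-1 : GL (Fin 1) F) ∈ W) (h4 : 4 ∣ Nat.card W) : Core (double W) := by
  have hscal : ∀ g : GL (Fin 1) F, g = scal F (Fin 1) (GeneralLinearGroup.det g) := fun g => by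
    refine Units.ext (Matrix.ext fun i j => ?_)
    rw [scal_val, Subsingleton.elim j i, Matrix.smul_apply, one_apply_eq, smul_eq_mul, mul_one,
      GeneralLinearGroup.val_det_apply, Matrix.det_fin_one, Subsingleton.elim i 0]
  have hinj : Function.Injective ((GeneralLinearGroup.det : GL (Fin 1) F →* Fˣ).comp
      W.subtype) := fun a b e =>
    Subtype.ext ((hscal a).trans ((congrArg (scal F (Fin 1)) e).trans (hscal b).symm))
  haveI : IsCyclic W := isCyclic_of_injective _ hinj
  obtain ⟨⟨d, hd⟩, hgen⟩ := IsCyclic.exists_generator (α := W)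
  have hdgen : ∀ k ∈ W,
      GeneralLinearGroup.det k ∈ Subgroup.zpowers (GeneralLinearGroup.det d) := fun k hk => by
    obtain ⟨i, hi⟩ := hgen ⟨k, hk⟩
    exact ⟨i, by rw [← show (d ^ i : GL (Fin 1) F) = k from congrArg Subtype.val hi, map_zpow]⟩
  have hod : 4 ∣ orderOf d := by
    have : orderOf d = Nat.card W := by
      rw [← orderOf_eq_card_of_forall_mem_zpowers hgen, Subgroup.orderOf_mk]
    rwa [this]
  have hd1 : d ≠ 1 := fun h => by rw [h, orderOf_one] at hod; norm_num at hod
  have hd2 : d ≠ -1 := fun h => by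
    have h3 : orderOf d ∣ 2 := orderOf_dvd_of_pow_eq_one (by rw [h]; simp)
    have := Nat.le_of_dvd two_pos (hod.trans h3)
    omega
  have hfx : ∀ x : GL (Fin 1) F, x ≠ -1 → fx (-x.1) = 1 := fun x hx =>
    fx_eq_one_of_injective _ fun v hv => by
      by_contra hv0
      obtain ⟨i, hi⟩ := Function.ne_iff.1 hv0
      refine hx (Units.ext ?_)
      have h := congrFun hv i
      rw [hscal x, scal_val, neg_mulVec, smul_mulVec, one_mulVec, Pi.neg_apply, Pi.smul_apply,
        smul_eq_mul] at h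
      have h' : (GeneralLinearGroup.det x : F) = -1 :=
        mul_right_cancel₀ hi (show (GeneralLinearGroup.det x : F) * v i = -1 * v i by linear_combination -h)
      rw [hscal x, scal_val, h', Units.val_neg, Units.val_one, neg_smul, one_smul]
  have hev : GeneralLinearGroup.det (-1 : GL (Fin 1 ⊕ Fin 1) F) = 1 := by
    rw [← neg_one_pair, det_bd, ← map_mul, neg_one_mul, neg_neg, map_one]
  have hcen : Cen W := fun k _ _ hkk => by
    have h : (GeneralLinearGroup.det k : F) * GeneralLinearGroup.det k = 1 := by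
      rw [← Units.val_mul, ← map_mul, hkk, map_one, Units.val_one]
    rcases mul_self_eq_one_iff.1 h with e | e
    · left; rw [hscal k, show GeneralLinearGroup.det k = 1 from Units.ext e, map_one]
    · right
      refine Units.ext ?_
      rw [hscal k, scal_val, e, Units.val_neg, Units.val_one, neg_smul, one_smul]
  refine
    { isPGroup := isPGroup_double hWp
      stat := stat_double h2 hWp (fun g _ _ => ⟨_, hscal g⟩) hcen hneg ⟨d, hd, hd1, hd2⟩
      cen := cen_double h2 hcen hneg
      negOne := neg_one_pair (F := F) (ι := Fin 1) ▸ bd_mem_double hneg hneg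
      ev := hev
      c := ⟨bd (d, d⁻¹), bd_mem_double hd (inv_mem hd),
        by rw [det_bd, map_inv, mul_inv_cancel], fun e => ?_, fun e => ?_⟩
      gen := ⟨bd (d, 1), bd_mem_double hd (one_mem _), bd (d⁻¹, 1),
        bd_mem_double (inv_mem hd) (one_mem _),
        by rw [det_bd, det_bd, map_one, mul_one, mul_one, map_inv, mul_inv_cancel], ?_,
        fx_neg_bd_one h2 (hfx d hd2), fx_neg_bd_one h2 (hfx d⁻¹ ?_),
        asym_pair_one h2 (hfx d hd2) (hfx d⁻¹ ?_)⟩ }
  · rw [← map_one bd] at e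
    exact hd1 (Prod.ext_iff.1 (bd_injective e)).1
  · rw [← neg_one_pair] at e
    exact hd2 (Prod.ext_iff.1 (bd_injective e)).1
  · intro k hk
    rw [det_bd, map_one, mul_one]
    obtain ⟨a, ha, b, hb, rfl | rfl⟩ := hk
    · rw [det_bd]; exact Subgroup.mul_mem _ (hdgen a ha) (hdgen b hb)
    · rw [map_mul, det_bd, det_swap]
      exact Subgroup.mul_mem _ (Subgroup.mul_mem _ (hdgen a ha) (hdgen b hb)) (hdgen _ hneg)
  all_goals exact fun h => hd2 (by rw [← inv_inv d, h, inv_neg, inv_one])

theorem data_base_one (hq : Fintype.card F % 4 = 1) :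
    ∃ K : Subgroup (GL (Fin 1 ⊕ Fin 1) F), Data K := by
  haveI : Fact (Nat.Prime 2) := ⟨Nat.prime_two⟩
  have hF : Odd (Fintype.card F) := Nat.odd_iff.2 (by omega)
  have h2 := CfsgLib.GLWreathSylow.two_ne hF
  obtain ⟨W⟩ : Nonempty (Sylow 2 (GL (Fin 1) F)) := inferInstance
  have hscal : ∀ g : GL (Fin 1) F, g = scal F (Fin 1) (GeneralLinearGroup.det g) := fun g => by
    refine Units.ext (Matrix.ext fun i j => ?_)
    rw [scal_val, Subsingleton.elim j i, Matrix.smul_apply, one_apply_eq, smul_eq_mul, mul_one,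
      GeneralLinearGroup.val_det_apply, Matrix.det_fin_one, Subsingleton.elim i 0]
  have hcomm : ∀ a b : GL (Fin 1) F, a * b = b * a := fun a b => by
    rw [hscal a, hscal b, ← map_mul, mul_comm, map_mul]
  haveI : (W : Subgroup (GL (Fin 1) F)).Normal := ⟨fun w hw g => by
    rwa [hcomm g w, mul_inv_cancel_right]⟩
  haveI : Unique (Sylow 2 (GL (Fin 1) F)) := Sylow.unique_of_normal W inferInstance
  have hneg : (-1 : GL (Fin 1) F) ∈ (W : Subgroup (GL (Fin 1) F)) := by
    have hp : IsPGroup 2 (Subgroup.zpowers (-1 : GL (Fin 1) F)) := by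
      obtain ⟨j, -, hj⟩ := (Nat.dvd_prime_pow Nat.prime_two).1
        (orderOf_dvd_of_pow_eq_one (x := (-1 : GL (Fin 1) F)) (n := 2 ^ 1) (by simp))
      exact IsPGroup.of_card (n := j) (by rw [Nat.card_zpowers, hj])
    obtain ⟨T, hT⟩ := hp.exists_le_sylow
    rw [Subsingleton.elim W T]
    exact hT (Subgroup.mem_zpowers _)
  have hWc : Nat.card (W : Subgroup (GL (Fin 1) F)) =
      2 ^ padicValNat 2 (Fintype.card F - 1) := by
    rw [W.card_eq_multiplicity, CfsgLib.GLWreathSylow.v_GL_one_mod_four hq]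
    simp
  have h4 : 4 ∣ Nat.card (W : Subgroup (GL (Fin 1) F)) := by
    rw [hWc, show 4 = 2 ^ 2 from rfl]
    refine Nat.pow_dvd_pow 2 ((padicValNat_dvd_iff_le (by have := Fintype.one_lt_card (α := F); omega)).1 ?_)
    norm_num; omega
  refine ⟨double (W : Subgroup (GL (Fin 1) F)), core_base_one h2 _ W.isPGroup' hneg h4, ?_⟩
  rw [card_double, hWc, Nat.card_congr
    (CfsgLib.GLWreathSylow.glReindex (F := F) (finSumFinEquiv (m := 1) (n := 1))).toEquiv,
    CfsgLib.GLWreathSylow.v_GL_one_mod_four hq, Nat.factorial_two, Nat.Prime.factorization_self Nat.prime_two]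
  ring

theorem trace_eq_zero_of_anti {g M : Matrix (Fin 2) (Fin 2) F}
    (hg : ¬(g 0 1 = 0 ∧ g 1 0 = 0 ∧ g 0 0 = g 1 1))
    (h : M * g = ((g 0 0 + g 1 1) • (1 : Matrix (Fin 2) (Fin 2) F) - g) * M) :
    M.trace = 0 := by
  have e00 := congrFun (congrFun h 0) 0
  have e01 := congrFun (congrFun h 0) 1
  have e10 := congrFun (congrFun h 1) 0
  have e11 := congrFun (congrFun h 1) 1
  simp [Matrix.mul_apply, Fin.sum_univ_two] at e00 e01 e10 e11
  rw [Matrix.trace_fin_two]
  by_contra hne
  refine hg ⟨?_, ?_, ?_⟩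
  · refine (mul_eq_zero.1 (show (M 0 0 + M 1 1) * g 0 1 = 0 by linear_combination e01)).resolve_left hne
  · refine (mul_eq_zero.1 (show (M 0 0 + M 1 1) * g 1 0 = 0 by linear_combination e10)).resolve_left hne
  · refine sub_eq_zero.1 ((mul_eq_zero.1
      (show (M 0 0 + M 1 1) * (g 0 0 - g 1 1) = 0 by linear_combination e00 - e11)).resolve_left hne)

theorem two_by_two_det_add (M : Matrix (Fin 2) (Fin 2) F) :
    (M + 1).det = M.det + M.trace + 1 := by
  rw [Matrix.det_fin_two, Matrix.det_fin_two, Matrix.trace_fin_two]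
  simp
  ring

theorem core_base_two (h2 : (2 : F) ≠ 0) (W : Subgroup (GL (Fin 2) F)) (hWp : IsPGroup 2 W)
    (hdet : ∀ x ∈ W, GeneralLinearGroup.det x = 1 ∨ GeneralLinearGroup.det x = -1)
    (hneg : (-1 : GL (Fin 2) F) ∈ W)
    (hns : ∀ x ∈ W, GeneralLinearGroup.det x = -1 →
      ¬(x.1 0 1 = 0 ∧ x.1 1 0 = 0 ∧ x.1 0 0 = x.1 1 1))
    {u v : GL (Fin 2) F} (hu : u ∈ W) (hv : v ∈ W) (hu1 : GeneralLinearGroup.det u = 1)
    (hv1 : GeneralLinearGroup.det v = 1) (huv : u * v ≠ v * u)
    {s : GL (Fin 2) F} (hs : s ∈ W) (hsd : GeneralLinearGroup.det s = -1) : Core W := by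
  have hev : GeneralLinearGroup.det (-1 : GL (Fin 2) F) = 1 := by
    refine Units.ext ?_
    rw [GeneralLinearGroup.val_det_apply, Units.val_neg, Units.val_one, Matrix.det_fin_two]
    simp
  -- an element of determinant `-1` with non-zero trace
  obtain ⟨γ, hγ, hγd, hγt⟩ : ∃ γ ∈ W,
      GeneralLinearGroup.det γ = -1 ∧ γ.1.trace ≠ 0 := by
    by_contra hall
    push Not at hall
    have hinv : ∀ w ∈ W, GeneralLinearGroup.det w = -1 → w * w = 1 := by
      intro w hw hwd
      refine Units.ext ?_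
      have ht := hall w hw hwd
      rw [Matrix.trace_fin_two] at ht
      have hd : w.1.det = -1 := by
        rw [← GeneralLinearGroup.val_det_apply, hwd, Units.val_neg, Units.val_one]
      rw [Matrix.det_fin_two] at hd
      rw [Units.val_mul, Units.val_one]
      ext i j
      fin_cases i <;> fin_cases j <;> simp [Matrix.mul_apply, Fin.sum_univ_two]
      · linear_combination w.1 0 0 * ht - hd
      · linear_combination w.1 0 1 * ht
      · linear_combination w.1 1 0 * ht
      · linear_combination w.1 1 1 * ht - hd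
    have hsi : ∀ x ∈ W, GeneralLinearGroup.det x = 1 →
        s * x * s = x⁻¹ := fun x hx hx1 => by
      have := hinv (s * x) (mul_mem hs hx) (by rw [map_mul, hsd, hx1, mul_one])
      exact eq_inv_of_mul_eq_one_left (by rw [mul_assoc, ← mul_assoc s] at *; simpa [mul_assoc] using this)
    have hss := hinv s hs hsd
    refine huv ?_
    have e : (u * v)⁻¹ = u⁻¹ * v⁻¹ := by
      rw [← hsi _ (mul_mem hu hv) (by rw [map_mul, hu1, hv1, one_mul]), ← hsi u hu hu1,
        ← hsi v hv hv1]
      simp only [mul_assoc]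
      rw [← mul_assoc s s, hss, one_mul]
    have e' := congrArg (fun z => z⁻¹) e
    simpa using e'
  have hγns := hns γ hγ hγd
  have hCH : γ.1 * γ.1 = γ.1.trace • γ.1 + 1 := by
    have hd : γ.1.det = -1 := by
      rw [← GeneralLinearGroup.val_det_apply, hγd, Units.val_neg, Units.val_one]
    rw [Matrix.det_fin_two] at hd
    rw [Matrix.trace_fin_two]
    ext i j
    fin_cases i <;> fin_cases j <;> simp [Matrix.mul_apply, Fin.sum_univ_two]
    · linear_combination -hd
    · ring
    · ring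
    · linear_combination -hd
  set t := γ.1.trace with ht
  set bar : Matrix (Fin 2) (Fin 2) F := t • 1 - γ.1 with hbar
  -- the elements of `W` respecting the algebra of `γ`
  have root : ∀ w : GL (Fin 2) F, ∀ δ : GL (Fin 2) F, δ = w * γ * w⁻¹ → δ * γ = γ * δ →
      δ.1 = γ.1 ∨ δ.1 = bar := by
    intro w δ hδ hc
    obtain ⟨a, b, hab⟩ := CfsgLib.Classical.exists_comb_of_commute hγns (congrArg Units.val hc)
    have htr : δ.1.trace = t := by
      rw [hδ, Units.val_mul, Units.val_mul, Matrix.trace_units_conj]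
    have hdd : δ.1.det = γ.1.det := by
      rw [hδ, Units.val_mul, Units.val_mul, Matrix.det_units_conj]
    rw [hab, Matrix.trace_add, Matrix.trace_smul, Matrix.trace_smul, Matrix.trace_one,
      Fintype.card_fin, ← ht, smul_eq_mul, smul_eq_mul, Nat.cast_ofNat] at htr
    rw [hab, Matrix.det_fin_two, Matrix.det_fin_two] at hdd
    have htt : γ.1 0 0 + γ.1 1 1 = t := by rw [ht, Matrix.trace_fin_two]
    have hdetγ : γ.1 0 0 * γ.1 1 1 - γ.1 0 1 * γ.1 1 0 = -1 := by
      rw [← Matrix.det_fin_two, ← GeneralLinearGroup.val_det_apply, hγd, Units.val_neg, Units.val_one]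
    simp at hdd
    have hkey : (b - 1) * (b + 1) * (t * t + 4) = 0 := by
      linear_combination -4 * hdd + (2 * a + t * b + t) * htr + 4 * a * b * htt + 4 * b ^ 2 * hdetγ
        - 4 * hdetγ
    have hne : t * t + 4 ≠ 0 := fun h0 => by
      -- otherwise `γ` would be a scalar plus a nilpotent matrix
      obtain ⟨c, hc⟩ : ∃ c : F, t = 2 * c := ⟨t / 2, by field_simp⟩
      have hc2 : c * c = -1 := mul_left_cancel₀ h2 (mul_left_cancel₀ h2 (by
        rw [hc] at h0; linear_combination h0))
      have hc0 : c ≠ 0 := fun h => by rw [h] at hc2; simp at hc2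
      set N : Matrix (Fin 2) (Fin 2) F := γ.1 - c • 1 with hN
      have hγN : γ.1 = c • 1 + N := by rw [hN]; abel
      have hN0 : N ≠ 0 := fun h => hγns (by
        rw [hγN, h, add_zero]; simp)
      have hNN : N * N = 0 := by
        rw [hN, sub_mul, mul_sub, mul_sub, hCH, smul_mul_assoc, mul_smul_comm, smul_mul_assoc,
          mul_smul_comm, one_mul, mul_one, one_mul, smul_smul, hc2, hc]
        module
      have hpow : ∀ k : ℕ, ∃ a b : F, a ≠ 0 ∧ b ≠ 0 ∧ (γ ^ 2 ^ k).1 = a • 1 + b • N := by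
        intro k
        induction k with
        | zero => exact ⟨c, 1, hc0, one_ne_zero, by rw [pow_zero, pow_one, one_smul, ← hγN]⟩
        | succ k ih =>
          obtain ⟨a, b, ha, hb, e⟩ := ih
          refine ⟨a * a, 2 * a * b, mul_ne_zero ha ha, mul_ne_zero (mul_ne_zero h2 ha) hb, ?_⟩
          rw [pow_succ, pow_mul, pow_two, Units.val_mul, e]
          simp only [add_mul, mul_add, smul_mul_assoc, mul_smul_comm, one_mul, mul_one, hNN,
            smul_zero, add_zero]
          module
      obtain ⟨k, hk⟩ := exists_two_pow hWp hγ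
      obtain ⟨a, b, -, hb, e⟩ := hpow k
      rw [hk, Units.val_one] at e
      have e1 : (1 - a) • N = 0 := by
        have e2 := congrArg (· * N) e
        simp only [add_mul, smul_mul_assoc, one_mul, hNN, smul_zero, add_zero] at e2
        rw [sub_smul, one_smul, ← e2, sub_self]
      rw [← sub_eq_zero.1 ((smul_eq_zero.1 e1).resolve_right hN0), one_smul] at e
      exact hN0 ((smul_eq_zero.1 (add_eq_left.1 e.symm)).resolve_left hb)
    rcases mul_eq_zero.1 ((mul_eq_zero.1 hkey).resolve_right hne) with hb | hb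
    · left
      have hb' : b = 1 := by linear_combination hb
      have ha' : a = 0 := (mul_eq_zero.1 (show (2 : F) * a = 0 by
        linear_combination htr - t * hb)).resolve_left h2
      rw [hab, ha', hb', zero_smul, one_smul, zero_add]
    · right
      have hb' : b = -1 := by linear_combination hb
      have ha' : a = t := mul_left_cancel₀ h2 (by linear_combination htr - t * hb)
      rw [hab, ha', hb', hbar, neg_smul, one_smul, sub_eq_add_neg]
  obtain ⟨N, hNmem⟩ : ∃ N : Subgroup W, ∀ w, w ∈ N ↔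
      (w.1.1 * γ.1 = γ.1 * w.1.1 ∨ w.1.1 * γ.1 = bar * w.1.1) := ⟨
    { carrier := {w | w.1.1 * γ.1 = γ.1 * w.1.1 ∨ w.1.1 * γ.1 = bar * w.1.1}
      one_mem' := Or.inl (by simp)
      mul_mem' := by
        intro a b ha hb
        have hbg : ∀ x : Matrix (Fin 2) (Fin 2) F, x * γ.1 = γ.1 * x → x * bar = bar * x := by
          intro x hx; rw [hbar, mul_sub, sub_mul, hx, mul_smul_comm, smul_mul_assoc, mul_one, one_mul]
        have hbb : ∀ x : Matrix (Fin 2) (Fin 2) F, x * γ.1 = bar * x → x * bar = γ.1 * x := by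
          intro x hx
          rw [hbar, mul_sub, hx, mul_smul_comm, mul_one, hbar, sub_mul, smul_mul_assoc, one_mul]
          abel
        show (a * b).1.1 * γ.1 = γ.1 * (a * b).1.1 ∨ (a * b).1.1 * γ.1 = bar * (a * b).1.1
        rw [Subgroup.coe_mul, Units.val_mul]
        rcases ha with ha | ha <;> rcases hb with hb | hb
        · left; rw [mul_assoc, hb, ← mul_assoc, ha, mul_assoc]
        · right; rw [mul_assoc, hb, ← mul_assoc, hbg _ ha, mul_assoc]
        · right; rw [mul_assoc, hb, ← mul_assoc, ha, mul_assoc]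
        · left; rw [mul_assoc, hb, ← mul_assoc, hbb _ ha, mul_assoc]
      inv_mem' := by
        intro a ha
        have hbb : ∀ x : Matrix (Fin 2) (Fin 2) F, x * γ.1 = bar * x → x * bar = γ.1 * x := by
          intro x hx
          rw [hbar, mul_sub, hx, mul_smul_comm, mul_one, hbar, sub_mul, smul_mul_assoc, one_mul]
          abel
        have e1 : (a⁻¹).1.1 * a.1.1 = 1 := by
          rw [Subgroup.coe_inv, ← Units.val_mul, inv_mul_cancel, Units.val_one]
        have e2 : a.1.1 * (a⁻¹).1.1 = 1 := by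
          rw [Subgroup.coe_inv, ← Units.val_mul, mul_inv_cancel, Units.val_one]
        rcases ha with ha | ha
        · left
          calc (a⁻¹).1.1 * γ.1 = (a⁻¹).1.1 * (γ.1 * a.1.1) * (a⁻¹).1.1 := by
                rw [mul_assoc, mul_assoc, e2, mul_one]
            _ = γ.1 * (a⁻¹).1.1 := by rw [← ha, ← mul_assoc, e1, one_mul]
        · right
          calc (a⁻¹).1.1 * γ.1 = (a⁻¹).1.1 * (γ.1 * a.1.1) * (a⁻¹).1.1 := by
                rw [mul_assoc, mul_assoc, e2, mul_one]
            _ = bar * (a⁻¹).1.1 := by rw [← hbb _ ha, ← mul_assoc, e1, one_mul] },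
    fun _ => Iff.rfl⟩
  have hNtr : ∀ w ∈ W, w.1 * γ.1 = bar * w.1 → w.1.trace = 0 :=
    fun w _ h => trace_eq_zero_of_anti hγns (by rwa [hbar, ht, Matrix.trace_fin_two] at h)
  have hN : N = ⊤ := by
    by_contra hne
    haveI := hWp.isNilpotent
    have hnc : NormalizerCondition W :=
      normalizerCondition_of_isNilpotent
    obtain ⟨z, hz, hzN⟩ := SetLike.exists_of_lt (hnc _ (lt_top_iff_ne_top.2 hne))
    refine hzN ?_
    have hγN : (⟨γ, hγ⟩ : W) ∈ N := (hNmem _).2 (Or.inl rfl)
    have h := (hNmem _).1 ((Subgroup.mem_normalizer_iff.1 hz _).1 hγN)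
    simp only [Subgroup.coe_mul, Subgroup.coe_inv] at h
    have hmem : z.1 * γ * z.1⁻¹ ∈ W :=
      mul_mem (mul_mem z.2 hγ) (inv_mem z.2)
    have hcm : (z.1 * γ * z.1⁻¹) * γ = γ * (z.1 * γ * z.1⁻¹) := by
      rcases h with h | h
      · refine Units.ext ?_
        rw [Units.val_mul, Units.val_mul]
        exact h
      · refine absurd (hNtr _ hmem h) ?_
        rwa [Units.val_mul, Units.val_mul, Matrix.trace_units_conj]
    refine (hNmem z).2 ?_
    rcases root z.1 _ rfl hcm with e | e
    · left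
      rw [show z.1.1 * γ.1 = (z.1 * γ * z.1⁻¹).1 * z.1.1 by
        rw [← Units.val_mul, ← Units.val_mul]; simp, e]
    · right
      rw [show z.1.1 * γ.1 = (z.1 * γ * z.1⁻¹).1 * z.1.1 by
        rw [← Units.val_mul, ← Units.val_mul]; simp, e]
  have hall : ∀ w ∈ W,
      w.1 * γ.1 = γ.1 * w.1 ∨ w.1 * γ.1 = bar * w.1 := fun w hw => by
    exact (hNmem ⟨w, hw⟩).1 (hN ▸ Subgroup.mem_top _)
  obtain ⟨w, hw, hwγ⟩ : ∃ w ∈ W, w.1 * γ.1 ≠ γ.1 * w.1 := by
    by_contra hc
    push Not at hc
    obtain ⟨a, b, e⟩ := CfsgLib.Classical.exists_comb_of_commute hγns (hc u hu)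
    refine huv (Units.ext ?_)
    rw [Units.val_mul, Units.val_mul, e, add_mul, mul_add, smul_mul_assoc, smul_mul_assoc,
      mul_smul_comm, mul_smul_comm, one_mul, mul_one, hc v hv]
  have scalar_of : ∀ x : GL (Fin 2) F, x * γ = γ * x → x * w = w * x →
      ∃ r : Fˣ, x = scal F (Fin 2) r := by
    intro x hxγ hxw
    obtain ⟨a, b, e⟩ := CfsgLib.Classical.exists_comb_of_commute hγns (congrArg Units.val hxγ)
    have h := congrArg Units.val hxw
    rw [Units.val_mul, Units.val_mul, e, add_mul, mul_add, smul_mul_assoc, smul_mul_assoc,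
      mul_smul_comm, mul_smul_comm, one_mul, mul_one, add_right_inj] at h
    have hb : b = 0 := by
      by_contra hb
      exact hwγ (smul_right_injective _ hb h).symm
    rw [hb, zero_smul, add_zero] at e
    have ha : a ≠ 0 := fun ha => x.ne_zero (by rw [e, ha, zero_smul])
    exact ⟨Units.mk0 a ha, Units.ext (by rw [scal_val]; exact e)⟩
  have hst : Stat W := by
    intro g hgo hg
    have hconj : ∀ y : GL (Fin 2) F, y * γ * y⁻¹ ∈ W →
        (y * γ * y⁻¹) * γ = γ * (y * γ * y⁻¹) := fun y hy => by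
      rcases hall _ hy with h | h
      · exact Units.ext h
      · exfalso
        refine hγt ?_
        have := hNtr _ hy h
        rwa [Units.val_mul, Units.val_mul, Matrix.trace_units_conj] at this
    have hgg : Commute (g * g) γ := by
      rcases root g _ rfl (hconj g (hg γ hγ)) with e | e
      · have : Commute g γ := mul_inv_eq_iff_eq_mul.1 (Units.ext e)
        exact this.mul_left this
      · have e' : g.1 * bar * (g⁻¹).1 = γ.1 := by
          have h1 : g.1 * bar * (g⁻¹).1 = t • 1 - g.1 * γ.1 * (g⁻¹).1 := by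
            rw [hbar, mul_sub, sub_mul, mul_smul_comm, smul_mul_assoc, mul_one, ← Units.val_mul,
              mul_inv_cancel, Units.val_one]
          rw [h1, ← Units.val_mul, ← Units.val_mul, e, hbar]
          abel
        refine mul_inv_eq_iff_eq_mul.1 (Units.ext ?_)
        rw [Units.val_mul, Units.val_mul, Units.val_mul, _root_.mul_inv_rev, Units.val_mul]
        calc g.1 * g.1 * γ.1 * ((g⁻¹).1 * (g⁻¹).1)
            = g.1 * (g.1 * γ.1 * (g⁻¹).1) * (g⁻¹).1 := by noncomm_ring
          _ = g.1 * bar * (g⁻¹).1 := by rw [← Units.val_mul, ← Units.val_mul, e]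
          _ = γ.1 := e'
    obtain ⟨m, hm⟩ := exists_pow_eq_self_of_coprime (x := g) (n := 2) (Nat.coprime_two_left.2 hgo)
    have hgγ : Commute g γ := by rw [← hm, pow_two]; exact hgg.pow_left m
    refine scalar_of g hgγ.eq ?_
    set g' := w * g * w⁻¹ with hg'
    have hg'γ : Commute g' γ := by
      have hwγ' := (hall w hw).resolve_left hwγ
      have hbar' : w * γ * w⁻¹ = γ * γ * γ⁻¹ * (γ⁻¹ * (w * γ * w⁻¹)) := by group
      have h1 : Commute (w * g * w⁻¹) (w * γ * w⁻¹) := (Commute.conj_iff w).2 hgγ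
      have h1' : (w * γ * w⁻¹).1 = bar := by
        rw [Units.val_mul, Units.val_mul, hwγ', mul_assoc, ← Units.val_mul, mul_inv_cancel,
          Units.val_one, mul_one]
      refine Units.ext ?_
      have h3 := congrArg Units.val h1.eq
      rw [Units.val_mul, Units.val_mul (w * γ * w⁻¹), h1', hbar, mul_sub, sub_mul, mul_smul_comm,
        smul_mul_assoc, mul_one, one_mul, sub_right_inj] at h3
      rw [Units.val_mul, Units.val_mul]
      exact h3
    obtain ⟨a, b, e⟩ := CfsgLib.Classical.exists_comb_of_commute hγns (congrArg Units.val hg'γ.eq)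
    have hcc : Commute g g'⁻¹ := by
      refine Commute.inv_right (Units.ext ?_)
      rw [Units.val_mul g, Units.val_mul g', e, mul_add, add_mul, mul_smul_comm, mul_smul_comm,
        smul_mul_assoc, smul_mul_assoc, mul_one, one_mul, ← Units.val_mul, hgγ.eq, Units.val_mul]
    have hmem : g * g'⁻¹ ∈ W := by
      have := mul_mem (hg w hw) (inv_mem hw)
      rwa [show g * w * g⁻¹ * w⁻¹ = g * g'⁻¹ by rw [hg']; group] at this
    obtain ⟨k, hk⟩ := exists_two_pow hWp hmem
    have hk' : (g * g'⁻¹) ^ orderOf g = 1 := by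
      rw [hcc.mul_pow, pow_orderOf_eq_one, one_mul, inv_pow, hg', conj_pow, pow_orderOf_eq_one]
      group
    have : g * g'⁻¹ = 1 := orderOf_eq_one_iff.1 (Nat.eq_one_of_dvd_coprimes
      ((Nat.coprime_two_left.2 hgo).pow_left k) (orderOf_dvd_of_pow_eq_one hk)
      (orderOf_dvd_of_pow_eq_one hk'))
    rw [mul_inv_eq_one, hg', eq_mul_inv_iff_mul_eq] at this
    exact this
  have hcen : Cen W := by
    intro k _ hcomm hkk
    obtain ⟨r, rfl⟩ := scalar_of k (hcomm γ hγ) (hcomm w hw)
    have h := congrFun (congrFun (show (scal F (Fin 2) r * scal F (Fin 2) r).1 = 1 from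
      congrArg Units.val hkk) 0) 0
    rw [← map_mul, scal_val, Matrix.smul_apply, one_apply_eq, smul_eq_mul, mul_one, Units.val_mul] at h
    rcases mul_self_eq_one_iff.1 h with e | e
    · left; rw [show r = 1 from Units.ext e, map_one]
    · right
      refine Units.ext ?_
      rw [scal_val, e, Units.val_neg, Units.val_one, neg_smul, one_smul]
  have hfxγ : fx (-γ.1) = 1 := fx_eq_one_of_injective _ fun v hv => by
    by_contra hv0
    have h0 : (γ.1 + 1) *ᵥ v = 0 := by
      rw [add_mulVec, one_mulVec]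
      rw [neg_mulVec] at hv
      nth_rewrite 2 [← hv]
      simp
    have := Matrix.exists_mulVec_eq_zero_iff.1 ⟨v, hv0, h0⟩
    rw [two_by_two_det_add, ← GeneralLinearGroup.val_det_apply, hγd, Units.val_neg, Units.val_one,
      ← ht] at this
    exact hγt (by linear_combination this)
  refine ⟨hWp, hst, hcen, hneg, hev, ⟨γ * γ, mul_mem hγ hγ, ?_, ?_, ?_⟩,
    γ, hγ, γ, hγ, ?_, ?_, hfxγ, hfxγ, Or.inl ?_⟩
  · rw [map_mul, hγd, neg_mul_neg, one_mul]
  · intro e
    have h := congrArg Units.val e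
    rw [Units.val_mul, hCH, Units.val_one, add_eq_right] at h
    exact γ.ne_zero ((smul_eq_zero.1 h).resolve_left hγt)
  · intro e
    have h := congrArg Units.val e
    rw [Units.val_mul, hCH, Units.val_neg, Units.val_one] at h
    have h01 := congrFun (congrFun h 0) 1
    have h10 := congrFun (congrFun h 1) 0
    have h00 := congrFun (congrFun h 0) 0
    have h11 := congrFun (congrFun h 1) 1
    simp at h01 h10 h00 h11
    refine hγns ⟨h01.resolve_left hγt, h10.resolve_left hγt,
      mul_left_cancel₀ hγt (by linear_combination h00 - h11)⟩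
  · rw [hγd, neg_mul_neg, one_mul]
  · intro k hk
    rw [hγd]
    rcases hdet k hk with e | e <;> rw [e]
    · exact one_mem _
    · exact Subgroup.mem_zpowers _
  · rw [bd_val, Matrix.trace, Fintype.sum_sum_type]
    simp only [Matrix.diag_apply, fromBlocks_apply₁₁, fromBlocks_apply₂₂]
    intro h
    refine hγt ((mul_eq_zero.1 (show (2 : F) * t = 0 from ?_)).resolve_left h2)
    rw [ht, Matrix.trace]
    simp only [Matrix.diag_apply]
    linear_combination h

theorem data_base_three (hq : Fintype.card F % 4 = 3) :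
    ∃ K : Subgroup (GL (Fin 2) F), Data K := by
  haveI : Fact (Nat.Prime 2) := ⟨Nat.prime_two⟩
  have hF : Odd (Fintype.card F) := Nat.odd_iff.2 (by omega)
  have h2 := CfsgLib.GLWreathSylow.two_ne hF
  obtain ⟨W⟩ : Nonempty (Sylow 2 (GL (Fin 2) F)) := inferInstance
  have hWp := W.isPGroup'
  have hdet : ∀ x ∈ (W : Subgroup (GL (Fin 2) F)),
      GeneralLinearGroup.det x = 1 ∨ GeneralLinearGroup.det x = -1 := fun x hx => by
    obtain ⟨k, hk⟩ := exists_two_pow hWp hx
    exact CfsgLib.GLWreathSylow.units_pm hq (k := k) (by rw [← map_pow, hk, map_one])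
  have hneg : (-1 : GL (Fin 2) F) ∈ (W : Subgroup (GL (Fin 2) F)) := by
    have hp : IsPGroup 2 (Subgroup.zpowers (-1 : GL (Fin 2) F)) := by
      obtain ⟨j, -, hj⟩ := (Nat.dvd_prime_pow Nat.prime_two).1
        (orderOf_dvd_of_pow_eq_one (x := (-1 : GL (Fin 2) F)) (n := 2 ^ 1) (by simp))
      exact IsPGroup.of_card (n := j) (by rw [Nat.card_zpowers, hj])
    have hsup : IsPGroup 2 ((W : Subgroup (GL (Fin 2) F)) ⊔
        Subgroup.zpowers (-1 : GL (Fin 2) F) : Subgroup (GL (Fin 2) F)) :=
      hWp.to_sup_of_normal_left' hp (Subgroup.zpowers_le.2 (by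
        rw [Subgroup.mem_normalizer_iff]
        intro w
        simp))
    rw [← W.3 hsup le_sup_left]
    exact Subgroup.mem_sup_right (Subgroup.mem_zpowers _)
  -- two non-commuting elements of determinant one
  obtain ⟨u, hu, v, hv, hu1, hv1, huv⟩ : ∃ u ∈ (W : Subgroup (GL (Fin 2) F)),
      ∃ v ∈ (W : Subgroup (GL (Fin 2) F)), GeneralLinearGroup.det u = 1 ∧
      GeneralLinearGroup.det v = 1 ∧ u * v ≠ v * u := by
    haveI := CfsgLib.GLWreathSylow.normal_range_toGL (F := F) (Fin 2)
    have hc : Nat.card ((W : Subgroup (GL (Fin 2) F)).comap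
        (SpecialLinearGroup.toGL : SpecialLinearGroup (Fin 2) F →* GL (Fin 2) F)) =
        2 ^ (Nat.card (SpecialLinearGroup (Fin 2) F)).factorization 2 :=
      CfsgLib.WreathSquares.card_comap_eq _ SpecialLinearGroup.toGL_injective _ W.card_eq_multiplicity
    obtain ⟨k, hk, ⟨e⟩⟩ := CfsgLib.Classical.SL2Q.sylow_two_quaternion h2 (Sylow.ofCard _ hc)
    haveI : NeZero (2 ^ k) := ⟨(Nat.two_pow_pos k).ne'⟩
    set x := e.symm (QuaternionGroup.a 1)
    set y := e.symm (QuaternionGroup.xa 0)
    refine ⟨_, x.2, _, y.2, Units.ext x.1.2, Units.ext y.1.2, fun h => ?_⟩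
    rw [← map_mul, ← map_mul] at h
    have h' : x * y = y * x := Subtype.ext (SpecialLinearGroup.toGL_injective h)
    have h'' := congrArg e h'
    rw [map_mul, map_mul, e.apply_symm_apply, e.apply_symm_apply, QuaternionGroup.a_mul_xa,
      QuaternionGroup.xa_mul_a] at h''
    have h3 : (0 : ZMod (2 * 2 ^ k)) - 1 = 0 + 1 := QuaternionGroup.xa.inj h''
    have h4 : ((2 : ℕ) : ZMod (2 * 2 ^ k)) = 0 := by
      push_cast
      linear_combination -h3
    rw [ZMod.natCast_eq_zero_iff] at h4
    have h5 := Nat.le_of_dvd two_pos h4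
    have : 2 ≤ 2 ^ k := (le_of_eq (pow_one 2).symm).trans (Nat.pow_le_pow_right two_pos hk)
    omega
  obtain ⟨s, hs, hsd⟩ : ∃ s ∈ (W : Subgroup (GL (Fin 2) F)), GeneralLinearGroup.det s = -1 := by
    by_contra hall
    push Not at hall
    have hle : Nat.card (W : Subgroup (GL (Fin 2) F)) ≤
        Nat.card ((W : Subgroup (GL (Fin 2) F)).comap
          (SpecialLinearGroup.toGL : SpecialLinearGroup (Fin 2) F →* GL (Fin 2) F)) := by
      refine Nat.card_le_card_of_injective
        (fun x => ⟨⟨x.1.1, congrArg Units.val ((hdet x x.2).resolve_right (hall x x.2))⟩, ?_⟩)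
        (fun a b h => Subtype.ext (Units.ext (congrArg (fun z => z.1.1) h)))
      show SpecialLinearGroup.toGL _ ∈ (W : Subgroup (GL (Fin 2) F))
      convert x.2 using 1
      exact Units.ext rfl
    haveI := CfsgLib.GLWreathSylow.normal_range_toGL (F := F) (Fin 2)
    rw [CfsgLib.WreathSquares.card_comap_eq _ SpecialLinearGroup.toGL_injective _
      W.card_eq_multiplicity, W.card_eq_multiplicity] at hle
    have hlt : (Nat.card (SpecialLinearGroup (Fin 2) F)).factorization 2 <
        (Nat.card (GL (Fin 2) F)).factorization 2 := by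
      have hcard : Nat.card (GL (Fin 2) F) =
          (Fintype.card F - 1) * Nat.card (SpecialLinearGroup (Fin 2) F) := by
        rw [← CfsgLib.Classical.card_units_mul_card_SL, Nat.card_units, Nat.card_eq_fintype_card]
      have hq1 : 1 < Fintype.card F := Fintype.one_lt_card
      rw [hcard, Nat.factorization_mul (by omega) Nat.card_pos.ne', Finsupp.add_apply]
      have : 1 ≤ (Fintype.card F - 1).factorization 2 :=
        (Nat.prime_two.dvd_iff_one_le_factorization (by omega)).1 (by omega)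
      omega
    exact absurd (Nat.pow_le_pow_iff_right (le_refl 2) |>.1 hle) (not_le.2 hlt)
  refine ⟨W, core_base_two h2 _ hWp hdet hneg ?_ hu hv hu1 hv1 huv hs hsd, W.card_eq_multiplicity⟩
  rintro x - hxd ⟨h01, h10, h00⟩
  have hd : x.1.det = -1 := by
    rw [← GeneralLinearGroup.val_det_apply, hxd, Units.val_neg, Units.val_one]
  rw [Matrix.det_fin_two, h01, h10, h00] at hd
  exact FiniteField.isSquare_neg_one_iff.1 ⟨x.1 1 1, by linear_combination -hd⟩ hq

theorem v_double (hF : Odd (Fintype.card F)) (j : ℕ) :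
    (Nat.card (GL (Fin (2 ^ (j + 2))) F)).factorization 2 =
      2 * (Nat.card (GL (Fin (2 ^ (j + 1))) F)).factorization 2 + 1 := by
  haveI : Fact (Nat.Prime 2) := ⟨Nat.prime_two⟩
  have hfac : ∀ i, (2 ^ i).factorial.factorization 2 + 1 = 2 ^ i := by
    intro i
    induction i with
    | zero => simp
    | succ i ih =>
      rw [Nat.factorization_def _ Nat.prime_two] at ih ⊢
      rw [pow_succ', padicValNat_factorial_mul]
      omega
  have f0 := hfac j
  have f1 := hfac (j + 1)
  have f2 := hfac (j + 2)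
  rcases (show Fintype.card F % 4 = 1 ∨ Fintype.card F % 4 = 3 by
      have := Nat.odd_iff.1 hF; omega) with hq | hq
  · rw [CfsgLib.GLWreathSylow.v_GL_one_mod_four hq, CfsgLib.GLWreathSylow.v_GL_one_mod_four hq,
      show 2 ^ (j + 2) * padicValNat 2 (Fintype.card F - 1) =
        2 * (2 ^ (j + 1) * padicValNat 2 (Fintype.card F - 1)) by ring]
    have h1 : (2 : ℕ) ^ (j + 2) = 2 * 2 ^ (j + 1) := by ring
    omega
  · have e1 : (2 : ℕ) ^ (j + 1) = 2 * 2 ^ j := by ring
    have e2 : (2 : ℕ) ^ (j + 2) = 2 * 2 ^ (j + 1) := by ring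
    have v1 := CfsgLib.GLWreathSylow.v_GL_three_mod_four hq (2 ^ j)
    have v2 := CfsgLib.GLWreathSylow.v_GL_three_mod_four hq (2 ^ (j + 1))
    rw [← e1] at v1
    rw [← e2] at v2
    rw [show 2 ^ (j + 1) * (Nat.card (GL (Fin 2) F)).factorization 2 =
        2 * (2 ^ j * (Nat.card (GL (Fin 2) F)).factorization 2) by ring] at v2
    omega

/-- The tower. -/
theorem exists_data (hF : Odd (Fintype.card F)) : ∀ j : ℕ,
    ∃ (ι : Type) (_ : Fintype ι) (_ : DecidableEq ι) (_ : Nonempty ι) (K : Subgroup (GL ι F)),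
      Fintype.card ι = 2 ^ (j + 1) ∧ Data K := by
  intro j
  induction j with
  | zero =>
    rcases (show Fintype.card F % 4 = 1 ∨ Fintype.card F % 4 = 3 by
        have := Nat.odd_iff.1 hF; omega) with hq | hq
    · obtain ⟨K, hK⟩ := data_base_one hq
      exact ⟨Fin 1 ⊕ Fin 1, inferInstance, inferInstance, inferInstance, K, by simp, hK⟩
    · obtain ⟨K, hK⟩ := data_base_three hq
      exact ⟨Fin 2, inferInstance, inferInstance, inferInstance, K, by simp, hK⟩
  | succ j ih =>
    obtain ⟨ι, _, _, _, K, hι, hK⟩ := ih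
    refine ⟨ι ⊕ ι, inferInstance, inferInstance, inferInstance, double K,
      by rw [Fintype.card_sum, hι]; ring, hK.double' (CfsgLib.GLWreathSylow.two_ne hF) ?_⟩
    rw [Nat.card_congr (CfsgLib.GLWreathSylow.glReindex (F := F)
        (Fintype.equivFinOfCardEq (α := ι ⊕ ι) (n := 2 ^ (j + 2))
          (by rw [Fintype.card_sum, hι]; ring))).toEquiv,
      Nat.card_congr (CfsgLib.GLWreathSylow.glReindex (F := F)
        (Fintype.equivFinOfCardEq hι)).toEquiv, v_double hF j]

end CfsgLib.PronormalPSL
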