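/-
Self-normalising Sylow 2-subgroups of `PSL(2^w, q)`, `q` odd, `w ≥ 2`.
-/
import Cfsg.Agent.Lib.PronormalPSL.Tower
import Cfsg.Agent.Lib.PronormalPSL.Abstract

set_option autoImplicit false

namespace CfsgLib.PronormalPSL

open Matrix

variable {F : Type*} [Field F] [Fintype F]

theorem isPronormal_odd (hF : Odd (Fintype.card F)) (j : ℕ)
    (H : Subgroup (ProjectiveSpecialLinearGroup (Fin (2 ^ (j + 2))) F)) (hH : Odd H.index) :
    Cfsg.IsPronormal H := by
  haveI : Fact (Nat.Prime 2) := ⟨Nat.prime_two⟩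
  have h2 := CfsgLib.GLWreathSylow.two_ne hF
  obtain ⟨ι, _, _, _, K, hι, hK⟩ := exists_data (F := F) hF j
  have hstat := hK.toCore.stat_special h2
  revert H hH
  set n := 2 ^ (j + 2) with hn
  set e : GL (ι ⊕ ι) F ≃* GL (Fin n) F := CfsgLib.GLWreathSylow.glReindex
    (Fintype.equivFinOfCardEq (by rw [Fintype.card_sum, hι, hn]; ring)) with he
  set Φ : SpecialLinearGroup (Fin n) F →* GL (ι ⊕ ι) F :=
    e.symm.toMonoidHom.comp SpecialLinearGroup.toGL with hΦ
  have hΦinj : Function.Injective Φ := e.symm.injective.comp SpecialLinearGroup.toGL_injective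
  have hΦdet : ∀ g, GeneralLinearGroup.det (Φ g) = 1 := fun g => by
    have h := CfsgLib.GLWreathSylow.det_glReindex
      (Fintype.equivFinOfCardEq (α := ι ⊕ ι) (n := n) (by rw [Fintype.card_sum, hι, hn]; ring))
      (Φ g)
    rw [← h]
    refine Units.ext ?_
    rw [← he, show e (Φ g) = SpecialLinearGroup.toGL g from e.apply_symm_apply _,
      GeneralLinearGroup.val_det_apply, Units.val_one]
    exact g.2
  have hKcard : Nat.card (((double K).map e.toMonoidHom : Subgroup (GL (Fin n) F))) =
      2 ^ (Nat.card (GL (Fin n) F)).factorization 2 := by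
    rw [Subgroup.card_map_of_injective (f := e.toMonoidHom) e.injective, card_double, hK.card,
      hn, v_double hF j, Nat.card_congr (CfsgLib.GLWreathSylow.glReindex (F := F)
        (Fintype.equivFinOfCardEq hι)).toEquiv]
    ring
  haveI := CfsgLib.GLWreathSylow.normal_range_toGL (F := F) (Fin n)
  have hP : Nat.card (((double K).map e.toMonoidHom).comap
      (SpecialLinearGroup.toGL : SpecialLinearGroup (Fin n) F →* GL (Fin n) F)) =
      2 ^ (Nat.card (SpecialLinearGroup (Fin n) F)).factorization 2 :=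
    CfsgLib.WreathSquares.card_comap_eq _ SpecialLinearGroup.toGL_injective _ hKcard
  set P := Sylow.ofCard _ hP with hPdef
  have hmemP : ∀ g, g ∈ (P : Subgroup (SpecialLinearGroup (Fin n) F)) ↔ Φ g ∈ double K :=
    fun g => by
      rw [hPdef, Sylow.coe_ofCard, Subgroup.mem_comap, Subgroup.mem_map_equiv]
      rfl
  have hscal : ∀ g : SpecialLinearGroup (Fin n) F, Odd (orderOf g) →
      (∀ p ∈ (P : Subgroup (SpecialLinearGroup (Fin n) F)),
        g * p * g⁻¹ ∈ (P : Subgroup (SpecialLinearGroup (Fin n) F))) →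
      g ∈ Subgroup.center (SpecialLinearGroup (Fin n) F) := by
    intro g hgo hg
    obtain ⟨r, hr⟩ := hstat (Φ g) (by rw [orderOf_injective Φ hΦinj]; exact hgo) fun k hk => by
      obtain ⟨p, hp⟩ : ∃ p : SpecialLinearGroup (Fin n) F, Φ p = k := by
        refine ⟨⟨(e k).1, ?_⟩, ?_⟩
        · have h1 : GeneralLinearGroup.det (e k) = GeneralLinearGroup.det k :=
            CfsgLib.GLWreathSylow.det_glReindex _ k
          rw [MonoidHom.mem_ker.1 hk.2] at h1
          exact congrArg Units.val h1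
        · show e.symm (SpecialLinearGroup.toGL _) = k
          rw [MulEquiv.symm_apply_eq]
          exact Units.ext rfl
      subst hp
      rw [← map_inv, ← map_mul, ← map_mul]
      exact ⟨(hmemP _).1 (hg p ((hmemP p).2 hk.1)), MonoidHom.mem_ker.2 (hΦdet _)⟩
    refine Subgroup.mem_center_iff.2 fun x => hΦinj ?_
    rw [map_mul, map_mul, hr]
    refine Units.ext ?_
    rw [Units.val_mul, Units.val_mul, scal_val, mul_smul_comm, mul_one, smul_mul_assoc, one_mul]
  set π : SpecialLinearGroup (Fin n) F →* ProjectiveSpecialLinearGroup (Fin n) F :=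
    QuotientGroup.mk' (Subgroup.center _) with hπdef
  have hπs : Function.Surjective π := QuotientGroup.mk'_surjective _
  intro H hH
  refine isPronormal_of_self_normalizing (P.mapSurjective hπs) (fun x hx => ?_) H hH
  obtain ⟨g, rfl⟩ := hπs x
  rw [Sylow.coe_mapSurjective] at hx ⊢
  -- `g` normalises `P`
  have hgP : g ∈ Subgroup.normalizer ((P : Subgroup (SpecialLinearGroup (Fin n) F)) : Set _) := by
    set Z := Subgroup.center (SpecialLinearGroup (Fin n) F)
    have hsub : ∀ p ∈ (P : Subgroup (SpecialLinearGroup (Fin n) F)),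
        g * p * g⁻¹ ∈ (P : Subgroup (SpecialLinearGroup (Fin n) F)) := by
      intro p hp
      have h := (Subgroup.mem_normalizer_iff.1 hx (π p)).1 (Subgroup.mem_map_of_mem π hp)
      rw [← map_inv, ← map_mul, ← map_mul] at h
      obtain ⟨q, hq, e'⟩ := h
      obtain ⟨z, hz, e''⟩ := (QuotientGroup.mk'_eq_mk' _).1 e'
      have hzc : Commute q z := Subgroup.mem_center_iff.1 hz q
      obtain ⟨a, ha⟩ := P.isPGroup' ⟨p, hp⟩
      obtain ⟨b, hb⟩ := P.isPGroup' ⟨q, hq⟩
      have hp2 : (g * p * g⁻¹) ^ 2 ^ (a + b) = 1 := by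
        rw [conj_pow, pow_add, pow_mul, show p ^ 2 ^ a = 1 from congrArg Subtype.val ha, one_pow]
        group
      have hq2 : q ^ 2 ^ (a + b) = 1 := by
        rw [pow_add, mul_comm, pow_mul, show q ^ 2 ^ b = 1 from congrArg Subtype.val hb, one_pow]
      rw [← e'', hzc.mul_pow, hq2, one_mul] at hp2
      have hzP : z ∈ (P : Subgroup (SpecialLinearGroup (Fin n) F)) := by
        obtain ⟨i, -, hi⟩ := (Nat.dvd_prime_pow Nat.prime_two).1 (orderOf_dvd_of_pow_eq_one hp2)
        have hsup : IsPGroup 2 ((P : Subgroup (SpecialLinearGroup (Fin n) F)) ⊔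
            Subgroup.zpowers z : Subgroup (SpecialLinearGroup (Fin n) F)) :=
          P.isPGroup'.to_sup_of_normal_left'
            (IsPGroup.of_card (n := i) (by rw [Nat.card_zpowers, hi]))
            (Subgroup.zpowers_le.2 (Subgroup.center_le_normalizer _ hz))
        rw [← P.3 hsup le_sup_left]
        exact Subgroup.mem_sup_right (Subgroup.mem_zpowers z)
      rw [← e'']
      exact Subgroup.mul_mem _ hq hzP
    rw [Subgroup.mem_normalizer_iff]
    intro p
    refine ⟨hsub p, fun hp => ?_⟩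
    obtain ⟨q, hq⟩ := Finite.surjective_of_injective
      (f := fun q : (P : Subgroup (SpecialLinearGroup (Fin n) F)) =>
        (⟨g * q * g⁻¹, hsub q q.2⟩ : (P : Subgroup (SpecialLinearGroup (Fin n) F))))
      (fun u v e' => Subtype.ext (mul_left_cancel (mul_right_cancel (congrArg Subtype.val e'))))
      ⟨_, hp⟩
    have : (q : SpecialLinearGroup (Fin n) F) = p :=
      mul_left_cancel (mul_right_cancel (congrArg Subtype.val hq))
    exact this ▸ q.2
  obtain ⟨i, o, ho, hio⟩ : ∃ i o, Odd o ∧ orderOf g = 2 ^ i * o := by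
    obtain ⟨i, o, ho, e'⟩ := Nat.exists_eq_pow_mul_and_not_dvd (orderOf_pos g).ne' 2 (by norm_num)
    exact ⟨i, o, Nat.not_even_iff_odd.1 fun h => ho (even_iff_two_dvd.1 h), e'⟩
  have hoc : g ^ 2 ^ i ∈ Subgroup.center (SpecialLinearGroup (Fin n) F) := by
    refine hscal _ (ho.of_dvd_nat (orderOf_dvd_of_pow_eq_one (by rw [← pow_mul, ← hio, pow_orderOf_eq_one])))
      fun p hp => (Subgroup.mem_normalizer_iff.1 (pow_mem hgP _) p).1 hp
  -- so the image has 2-power order
  have hord : π g ^ 2 ^ i = 1 := by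
    rw [← map_pow]
    exact (QuotientGroup.eq_one_iff _).2 hoc
  obtain ⟨k, -, hk⟩ := (Nat.dvd_prime_pow Nat.prime_two).1 (orderOf_dvd_of_pow_eq_one hord)
  set S := (P : Subgroup (SpecialLinearGroup (Fin n) F)).map π with hS
  have hSp : IsPGroup 2 S := P.isPGroup'.map π
  have hsup : IsPGroup 2 (S ⊔ Subgroup.zpowers (π g) : Subgroup _) :=
    hSp.to_sup_of_normal_left' (IsPGroup.of_card (n := k) (by rw [Nat.card_zpowers, hk]))
      (Subgroup.zpowers_le.2 hx)
  have hmax := (P.mapSurjective hπs).3 hsup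
    (by rw [Sylow.coe_mapSurjective]; exact le_sup_left)
  rw [Sylow.coe_mapSurjective] at hmax
  show π g ∈ (P : Subgroup (SpecialLinearGroup (Fin n) F)).map π
  rw [← hmax]
  exact Subgroup.mem_sup_right (Subgroup.mem_zpowers _)

end CfsgLib.PronormalPSL
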