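/-
Pronormality of subgroups of odd index in `PSL(2, q)`, `q` odd.
-/
import Cfsg.Agent.Lib.PronormalPSL.Abstract
import Cfsg.Agent.Lib.Classical.SL2Klein
import Cfsg.Agent.Lib.Fusion.PSL2Simple
import Cfsg.Agent.Lib.Fusion.Dihedral

set_option autoImplicit false

namespace CfsgLib.PronormalPSL

open Matrix CfsgLib.Fusion CfsgLib.Fusion.PSL2 CfsgLib.Classical.SL2Q

variable {F : Type*} [Field F] [Fintype F]

/-- The group `PSL(2, q)`. -/
local notation "PSL2q" => Matrix.ProjectiveSpecialLinearGroup (Fin 2) F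

theorem involution_unique (h2 : (2 : F) ≠ 0) (t u a : PSL2q) (ht : orderOf t = 2)
    (hu : orderOf u = 2) (ha1 : a ≠ 1) (hao : Odd (orderOf a)) (hta : Commute t a)
    (hua : Commute u a) : t = u := by
  obtain ⟨g, hg⟩ := involution_conj h2 ht
  suffices main : ∀ u a : PSL2q, orderOf u = 2 → a ≠ 1 → Odd (orderOf a) →
      Commute (proj wM) a → Commute u a → proj wM = u by
    have h := main (g⁻¹ * u * g⁻¹⁻¹) (g⁻¹ * a * g⁻¹⁻¹)
      (by rw [← MulAut.conj_apply, MulEquiv.orderOf_eq, hu])
      (fun h => ha1 (conj_eq_one_iff.1 h))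
      (by rw [← MulAut.conj_apply, MulEquiv.orderOf_eq]; exact hao)
      (by
        rw [show proj wM = g⁻¹ * t * g⁻¹⁻¹ by rw [← hg]; group]
        exact (Commute.conj_iff _).2 hta)
      ((Commute.conj_iff _).2 hua)
    rw [← hg, h]; group
  clear hg ht hu ha1 hao hta hua t u a
  intro u a hu ha1 hao hta hua
  obtain ⟨x, rfl⟩ := proj_surjective a
  obtain ⟨y, rfl⟩ := proj_surjective u
  have hcoprime : ∀ z : PSL2q, Odd (orderOf z) → z * z = 1 → z = 1 := fun z hz hz2 =>
    orderOf_eq_one_iff.1 (Nat.eq_one_of_dvd_coprimes (Nat.coprime_two_right.2 hz) dvd_rfl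
      (orderOf_dvd_of_pow_eq_one (by rw [pow_two]; exact hz2)))
  have hsq0 : ∀ z : SpecialLinearGroup (Fin 2) F, z.1 0 0 + z.1 1 1 = 0 → proj z * proj z = 1 :=
    fun z hz => by rw [← map_mul, sq_of_trace_zero hz, proj_negOne]
  have hxt : x ∈ torus := by
    rcases (mem_centralizer_proj_wM h2).1
      (Subgroup.mem_centralizer_singleton_iff.2 hta.symm.eq) with h | h
    · exact h
    · exact absurd (hcoprime _ hao (hsq0 _ h.trace)) ha1
  have e : y * x = x * y ∨ y * x = negOne * (x * y) :=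
    proj_eq_iff.1 (by rw [map_mul, map_mul]; exact hua.eq)
  obtain ⟨x1, x2⟩ := hxt
  have hx10 : x.1 1 0 ≠ 0 := by
    intro h0
    refine ha1 ((QuotientGroup.eq_one_iff x).2 ?_)
    have hd := det_eq x
    rw [x2, h0, ← x1] at hd
    have hpm : x.1 0 0 = 1 ∨ x.1 0 0 = -1 :=
      mul_self_eq_one_iff.1 (by linear_combination hd)
    refine mem_center_iff'.2 ?_
    rcases hpm with h | h
    · exact Or.inl (ext2 (by simp [h]) (by simp [x2, h0]) (by simp [h0]) (by simp [← x1, h]))
    · exact Or.inr (ext2 (by simp [negOne, h]) (by simp [negOne, x2, h0]) (by simp [negOne, h0])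
        (by simp [negOne, ← x1, h]))
  rcases e with e | e
  · have e00 := congrArg (fun z : SpecialLinearGroup (Fin 2) F => z.1 0 0) e
    have e10 := congrArg (fun z : SpecialLinearGroup (Fin 2) F => z.1 1 0) e
    simp only [mul_entry] at e00 e10
    rw [x2] at e00
    rw [← x1] at e10
    have hy1 : y.1 0 0 = y.1 1 1 := by
      refine mul_right_cancel₀ hx10 ?_
      linear_combination -e10
    have hy2 : y.1 0 1 = -y.1 1 0 := by
      refine mul_right_cancel₀ hx10 ?_
      linear_combination e00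
    have hyc : y ∉ Subgroup.center (SpecialLinearGroup (Fin 2) F) := fun h => by
      rw [(QuotientGroup.eq_one_iff y).2 h |> fun e : proj y = 1 => e, orderOf_one] at hu
      omega
    have hyy : y * y ∈ Subgroup.center (SpecialLinearGroup (Fin 2) F) := by
      refine (QuotientGroup.eq_one_iff (y * y)).1 ?_
      have := pow_orderOf_eq_one (proj y)
      rw [hu, pow_two, ← map_mul] at this
      exact this
    have htr := trace_zero_of_sq h2 hyy hyc
    have hy0 : y.1 0 0 = 0 :=
      (mul_eq_zero.1 (show (2 : F) * y.1 0 0 = 0 by rw [← hy1] at htr; linear_combination htr)).resolve_left h2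
    have hd := det_eq y
    rw [← hy1, hy0, hy2] at hd
    rcases mul_self_eq_one_iff.1 (show y.1 1 0 * y.1 1 0 = 1 by linear_combination hd) with h | h
    · refine congrArg proj (ext2 ?_ ?_ ?_ ?_) <;> simp [wM, ← hy1, hy0, hy2, h]
    · refine proj_eq_iff.2 (Or.inr (ext2 ?_ ?_ ?_ ?_)) <;>
        simp [negOne_mul_entry, wM, ← hy1, hy0, hy2, h]
  · exfalso
    refine ha1 (hcoprime _ hao (hsq0 _ ?_))
    have e2 : x.1 = -(y⁻¹.1 * x.1 * y.1) := by
      have e3 : y * x = negOne * (x * y) := e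
      have e4 : x = negOne * (y⁻¹ * x * y) := by
        calc x = y⁻¹ * (y * x) := by group
          _ = negOne * (y⁻¹ * x * y) := by
            rw [e3, ← mul_assoc, ← negOne_comm y⁻¹]; group
      conv_lhs => rw [e4]
      ext i j
      rw [negOne_mul_entry]
      rfl
    have h3 := congrArg Matrix.trace e2
    rw [Matrix.trace_neg, Matrix.trace_mul_cycle, show y.1 * y⁻¹.1 = 1 from congrArg Subtype.val (mul_inv_cancel y),
      one_mul, Matrix.trace_fin_two] at h3
    exact (mul_eq_zero.1 (show (2 : F) * (x.1 0 0 + x.1 1 1) = 0 by linear_combination h3)).resolve_left h2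

theorem isPronormal_two (hodd : Fintype.card F % 2 = 1) (H : Subgroup PSL2q) (hH : Odd H.index) :
    Cfsg.IsPronormal H := by
  haveI : Fact (Nat.Prime 2) := ⟨Nat.prime_two⟩
  have h2 : (2 : F) ≠ 0 := CfsgLib.Classical.two_ne_zero_of_odd_card (Nat.odd_iff.2 hodd)
  rcases (show (Fintype.card F % 8 = 3 ∨ Fintype.card F % 8 = 5) ∨
      (Fintype.card F % 8 = 1 ∨ Fintype.card F % 8 = 7) by omega) with hq | hq
  · exact isPronormal_of_klein_sylow
      (fun S x hx => klein_mul_self (sylow_two_klein h2 hq S) hx)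
      (fun S => (sylow_two_klein h2 hq S).card_four)
      (fun S z hz => klein_self_centralizing h2 (sylow_two_klein h2 hq S) z hz)
      (involution_unique h2) H hH
  · have h16 : 16 ∣ Fintype.card F ^ 2 - 1 := by
      obtain ⟨c, r, hr, e⟩ : ∃ c r, (r = 1 ∨ r = 7) ∧ Fintype.card F = 8 * c + r :=
        ⟨Fintype.card F / 8, _, hq, (Nat.div_add_mod _ _).symm⟩
      rcases hr with rfl | rfl
      · exact ⟨4 * c * c + c, by rw [e]; ring_nf; omega⟩
      · exact ⟨4 * c * c + 7 * c + 3, by rw [e]; ring_nf; omega⟩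
    obtain ⟨a, t, m, hD, hidx⟩ := CfsgLib.Fusion.PSL2.exists_dihedralData hodd h16
    let S₀ : Sylow 2 PSL2q := (IsPGroup.of_card hD.card).toSylow hidx
    refine isPronormal_of_self_normalizing S₀ (fun x hx => ?_) H hH
    obtain ⟨V, hV, -⟩ := exists_klein_large h2 hq
    obtain ⟨P, hP⟩ := (IsPGroup.of_card (p := 2) (n := 2)
      (hV.card_four.trans (by norm_num))).exists_le_sylow
    obtain ⟨c, hc⟩ := MulAction.exists_smul_eq PSL2q P S₀
    have hV' := isKleinFour_map hV c
    have hVS : V.map (MulAut.conj c).toMonoidHom ≤ (S₀ : Subgroup PSL2q) := by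
      rw [← hc]
      exact Subgroup.map_mono hP
    obtain ⟨i, o, ho, hio⟩ : ∃ i o, Odd o ∧ orderOf x = 2 ^ i * o := by
      obtain ⟨i, o, ho, e⟩ := Nat.exists_eq_pow_mul_and_not_dvd (orderOf_pos x).ne' 2 (by norm_num)
      exact ⟨i, o, Nat.not_even_iff_odd.1 fun h => ho (even_iff_two_dvd.1 h), e⟩
    have hxn : ∀ v ∈ (S₀ : Subgroup PSL2q), x * v * x⁻¹ ∈ (S₀ : Subgroup PSL2q) := fun v hv =>
      (Subgroup.mem_normalizer_iff.1 hx v).1 hv
    let α : MulAut (Subgroup.closure {a, t}) :=
      { toFun := fun v => ⟨x * v * x⁻¹, hxn v v.2⟩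
        invFun := fun v => ⟨x⁻¹ * v * x, show x⁻¹ * v * x ∈ (S₀ : Subgroup PSL2q) by
          have h := (Subgroup.mem_normalizer_iff.1 (inv_mem hx) v).1 v.2
          rwa [inv_inv] at h⟩
        left_inv := fun v => Subtype.ext (by show x⁻¹ * (x * v * x⁻¹) * x = v; group)
        right_inv := fun v => Subtype.ext (by show x * (x⁻¹ * v * x) * x⁻¹ = v; group)
        map_mul' := fun v w => Subtype.ext (by
          show x * (v * w : Subgroup.closure {a, t}) * x⁻¹ = _ * _
          push_cast
          group) }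
    obtain ⟨k, hk⟩ := hD.aut_pow α
    set z := x ^ 2 ^ i with hz
    have hzo : z ^ o = 1 := by rw [hz, ← pow_mul, ← hio, pow_orderOf_eq_one]
    have hpow : ∀ (j : ℕ) (v : Subgroup.closure {a, t}),
        (((α ^ j) v : Subgroup.closure {a, t}) : PSL2q) = x ^ j * (v : PSL2q) * (x ^ j)⁻¹ := by
      intro j
      induction j with
      | zero => intro v; simp
      | succ j ih =>
        intro v
        rw [pow_succ', MulAut.mul_apply, pow_succ']
        show x * (((α ^ j) v : Subgroup.closure {a, t}) : PSL2q) * x⁻¹ = _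
        rw [ih]; group
    have hcomm : ∀ v ∈ (S₀ : Subgroup PSL2q), x ^ 2 ^ k * v * (x ^ 2 ^ k)⁻¹ = v := by
      intro v hv
      have h := hpow (2 ^ k) ⟨v, hv⟩
      rw [hk] at h
      exact h.symm
    -- the odd part centralises the Sylow subgroup
    obtain ⟨m', hm'⟩ := exists_pow_eq_self_of_coprime (x := z) (n := 2 ^ k)
      ((Nat.coprime_two_right.2 (ho.of_dvd_nat (orderOf_dvd_of_pow_eq_one hzo))).pow_right k).symm
    have hzc : ∀ v ∈ V.map (MulAut.conj c).toMonoidHom, v * z = z * v := by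
      intro v hv
      have h1 : Commute (x ^ 2 ^ k) v := mul_inv_eq_iff_eq_mul.1 (hcomm v (hVS hv))
      have h2' : Commute ((z ^ 2 ^ k) ^ m') v := by
        rw [hz, ← pow_mul x, mul_comm (2 ^ i), pow_mul x]
        exact (h1.pow_left _).pow_left _
      rw [hm'] at h2'
      exact h2'.eq.symm
    have hzV := klein_self_centralizing h2 hV' z hzc
    have hz1 : z = 1 := orderOf_eq_one_iff.1 (Nat.eq_one_of_dvd_coprimes
      (Nat.coprime_two_right.2 ho) (orderOf_dvd_of_pow_eq_one hzo)
      (orderOf_dvd_of_pow_eq_one (by rw [pow_two]; exact klein_mul_self hV' hzV)))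
    have hp : IsPGroup 2 (Subgroup.zpowers x) := by
      obtain ⟨j, -, hj⟩ := (Nat.dvd_prime_pow Nat.prime_two).1
        (orderOf_dvd_of_pow_eq_one (x := x) (n := 2 ^ i) hz1)
      exact IsPGroup.of_card (n := j) (by rw [Nat.card_zpowers, hj])
    have hsup : IsPGroup 2 ((S₀ : Subgroup PSL2q) ⊔ Subgroup.zpowers x : Subgroup PSL2q) :=
      S₀.isPGroup'.to_sup_of_normal_left' hp (Subgroup.zpowers_le.2 hx)
    rw [← S₀.3 hsup le_sup_left]
    exact Subgroup.mem_sup_right (Subgroup.mem_zpowers x)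

end CfsgLib.PronormalPSL
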